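import Cfsg.Agent.Lib.ExtFieldOrth.Elements

/-!
Climbing: an overgroup moving some line over the extension field to a subspace meeting another line in a
hyperplane.
-/

set_option autoImplicit false
set_option linter.unusedSectionVars false

namespace CfsgLib.ExtFieldOrth

open Matrix QuadraticMap Module CfsgLib.Orth

variable {F : Type*} [Field F] [Fintype F] {ι : Type} [Fintype ι] [DecidableEq ι]
  {L : Type*} [Field L] [Fintype L] [Algebra F L] [Module L (ι → F)] [IsScalarTower F L (ι → F)]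
  {q : QuadraticForm F (ι → F)} {τ : L →ₗ[F] F}

variable (L) in
/-- The line over `L` through a vector, as a subspace over `F`. -/
def line (a : ι → F) : Submodule F (ι → F) :=
  (Submodule.span L {a}).restrictScalars F

theorem mem_line {a x : ι → F} : x ∈ line L a ↔ ∃ c : L, c • a = x :=
  Submodule.mem_span_singleton

theorem smul_mem_line (c : L) (a : ι → F) : c • a ∈ line L a := mem_line.2 ⟨c, rfl⟩

theorem self_mem_line (a : ι → F) : a ∈ line L a := Submodule.mem_span_singleton_self a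

theorem finrank_line {a : ι → F} (ha : a ≠ 0) : finrank F (line L a) = finrank F L :=
  ((LinearEquiv.toSpanNonzeroSingleton L (ι → F) a ha).restrictScalars F).finrank_eq.symm

/-- The image of a subspace. -/
def img (g : O q) (X : Submodule F (ι → F)) : Submodule F (ι → F) := X.map (app g)

theorem app_mem_img {g : O q} {X : Submodule F (ι → F)} {x : ι → F} (hx : x ∈ X) : app g x ∈ img g X :=
  Submodule.mem_map_of_mem hx

theorem img_mul (g h : O q) (X : Submodule F (ι → F)) : img (g * h) X = img g (img h X) := by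
  rw [img, img, img, ← Submodule.map_comp]
  congr 1
  exact LinearMap.ext fun x => app_mul g h x

theorem img_one (X : Submodule F (ι → F)) : img (1 : O q) X = X := by
  rw [img, show app (1 : O q) = LinearMap.id from LinearMap.ext fun x => app_one x, Submodule.map_id]

theorem mem_img {g : O q} {X : Submodule F (ι → F)} {x : ι → F} : x ∈ img g X ↔ app g⁻¹ x ∈ X := by
  constructor
  · rintro ⟨y, hy, rfl⟩
    rwa [app_inv_app]
  · exact fun h => ⟨_, h, app_app_inv g x⟩

theorem finrank_img (g : O q) (X : Submodule F (ι → F)) : finrank F (img g X) = finrank F X :=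
  (Submodule.equivMapOfInjective (app g) (app_injective g) X).finrank_eq.symm

/-- An overgroup element moving an isotropic line. -/
structure IsPair (q : QuadraticForm F (ι → F)) (τ : L →ₗ[F] F) (M : Subgroup (O q)) (u : ι → F) (c : O q) :
    Prop where
  ne : u ≠ 0
  sing : kb q τ u u = 0
  mem : c ∈ M
  move : img c (line L u) ≠ line L u

/-- A moved line meeting the line in dimension at least `e`. -/
def Good (q : QuadraticForm F (ι → F)) (τ : L →ₗ[F] F) (M : Subgroup (O q)) (e : ℕ) : Prop :=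
  ∃ u c, IsPair q τ M u c ∧ e ≤ finrank F ↥(line L u ⊓ img c (line L u)) ∧
    (finrank F L = 2 → ∃ x ∈ line L u, ∃ y ∈ img c (line L u), polar q x y ≠ 0)

variable (S : Setup q τ)
include S

theorem Setup.polar_img_line {u : ι → F} (hu : kb q τ u u = 0) (g : O q) {x y : ι → F}
    (hx : x ∈ img g (line L u)) (hy : y ∈ img g (line L u)) : polar q x y = 0 := by
  obtain ⟨a, ha, rfl⟩ := hx
  obtain ⟨b, hb, rfl⟩ := hy
  obtain ⟨k, rfl⟩ := mem_line.1 ha
  obtain ⟨k', rfl⟩ := mem_line.1 hb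
  rw [polar_app, S.polar_smul_smul, hu, mul_zero, map_zero]

omit S in
theorem IsPair.conj {M : Subgroup (O q)} {u : ι → F} {c : O q} (P : IsPair q τ M u c) {h : O q} (hh : h ∈ M)
    (hne : img h (img c (line L u)) ≠ img c (line L u)) : IsPair q τ M u (c⁻¹ * h * c) := by
  refine ⟨P.ne, P.sing, M.mul_mem (M.mul_mem (M.inv_mem P.mem) hh) P.mem, fun e => hne ?_⟩
  have h1 := congrArg (img c) e
  rwa [← img_mul, show c * (c⁻¹ * h * c) = h * c by group, img_mul] at h1

theorem Setup.good_of_move {M : Subgroup (O q)} {u : ι → F} {c : O q} (P : IsPair q τ M u c) {h : O q}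
    (hh : h ∈ M) (hne : img h (img c (line L u)) ≠ img c (line L u)) {X : Submodule F (ι → F)}
    (hX : X ≤ img c (line L u)) (hhX : ∀ x ∈ X, app h x ∈ img c (line L u))
    (hex : finrank F L = 2 → ∃ y ∈ img c (line L u), ∃ y' ∈ img c (line L u), polar q y (app h y') ≠ 0) :
    Good q τ M (finrank F X) := by
  refine ⟨u, _, P.conj hh hne, ?_, fun hr => ?_⟩
  · calc finrank F X = finrank F ↥(img (c⁻¹ * h) X) := (finrank_img _ _).symm
      _ ≤ _ := by
        refine Submodule.finrank_mono fun x hx => ?_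
        rw [mem_img, _root_.mul_inv_rev, inv_inv, app_mul] at hx
        refine ⟨?_, ?_⟩
        · have h1 := hhX _ hx
          rw [app_app_inv] at h1
          rw [mem_img, app_inv_app] at h1
          exact h1
        · rw [img_mul (c⁻¹ * h) c, SetLike.mem_coe, mem_img, _root_.mul_inv_rev, inv_inv, app_mul]
          exact hX hx
  · obtain ⟨y, hy, y', hy', hyy⟩ := hex hr
    refine ⟨app c⁻¹ y, mem_img.1 hy, app (c⁻¹ * h) y', ?_, ?_⟩
    · rw [img_mul (c⁻¹ * h) c]
      exact app_mem_img hy'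
    · rwa [app_mul, polar_app]

/-- Unipotents cannot all fix a moved line. -/
theorem Setup.exists_moving {M : Subgroup (O q)} (hM : HasLin L M) {Y : Submodule F (ι → F)}
    (hY : finrank F Y = finrank F L) {p v₀ y : ι → F} (hp : kb q τ p p = 0) (hpv : kb q τ p v₀ = 0)
    (hv : ∀ k : L, v₀ ≠ k • p) (hy : y ∈ Y) (hyp : kb q τ y p ≠ 0) :
    ∃ h ∈ M, img h Y ≠ Y ∧ ∀ x, kb q τ p x = 0 → kb q τ v₀ x = 0 → app h x = x := by
  have hlam : ∀ k : L, kb q τ p (k • v₀) = 0 := fun k => by rw [S.kb_smul_right, hpv, mul_zero]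
  by_contra hc
  push Not at hc
  have hstab : ∀ k : L, app (S.kT hp (hlam k)) y ∈ Y := fun k => by
    by_cases h : img (S.kT hp (hlam k)) Y = Y
    · rw [← h]; exact app_mem_img hy
    · obtain ⟨x, hx1, hx2, hx3⟩ := hc _ (S.kT_mem hM hp (hlam k)) h
      exact absurd (S.kT_fix hp (hlam k) hx1 (by rw [S.kb_smul_left, hx2, mul_zero])) hx3
  obtain ⟨x₀, hx₀⟩ : ∃ x₀, x₀ = kb q τ y p • v₀ - kb q τ y v₀ • p := ⟨_, rfl⟩
  have hx0 : x₀ ≠ 0 := fun e => by
    rw [hx₀, sub_eq_zero] at e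
    refine hv ((kb q τ y p)⁻¹ * kb q τ y v₀) ?_
    rw [mul_smul, ← e, inv_smul_smul₀ hyp]
  have hline : line L x₀ ≤ Y := fun x hx => by
    obtain ⟨k, rfl⟩ := mem_line.1 hx
    have h1 := Y.sub_mem (hstab (k / 2)) (hstab (-(k / 2)))
    have := S.two'
    convert h1 using 1
    simp only [hx₀, S.app_kT, S.kb_smul_left, S.kb_smul_right]
    match_scalars <;> field_simp <;> ring
  have heq := Submodule.eq_of_le_of_finrank_eq hline (by rw [finrank_line hx0, hY])
  rw [← heq] at hy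
  obtain ⟨k, hk⟩ := mem_line.1 hy
  apply hyp
  have hxp : kb q τ x₀ p = 0 := by
    rw [hx₀, S.kb_sub_left, S.kb_smul_left, S.kb_smul_left, S.kb_comm v₀ p, hpv, hp]
    ring
  rw [← hk, S.kb_smul_left, hxp, mul_zero]

theorem Setup.exists_orth_not_mem (U : Submodule L (ι → F)) {y : ι → F} (hy : y ∉ U) :
    ∃ v, (∀ x ∈ U, kb q τ x v = 0) ∧ kb q τ y v ≠ 0 := by
  have := S.finiteL
  by_contra hc
  push Not at hc
  apply hy
  rw [← LinearMap.BilinForm.orthogonal_orthogonal S.kB_nondeg S.kB_isRefl U,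
    LinearMap.BilinForm.mem_orthogonal_iff]
  intro v hv
  rw [LinearMap.BilinForm.mem_orthogonal_iff] at hv
  show kb q τ v y = 0
  rw [S.kb_comm]
  exact hc v hv

theorem Setup.mult_eq_algebraMap {Z : Submodule F L} (h0 : Z ≠ ⊥) (h1 : Z ≠ ⊤) {γ : L}
    (hγ : ∀ z ∈ Z, γ * z ∈ Z) : ∃ t : F, algebraMap F L t = γ := by
  have := S.finite
  haveI := Subalgebra.isSimpleOrder_of_finrank_prime F L S.prime
  let A : Subalgebra F L :=
    { carrier := {a | ∀ z ∈ Z, a * z ∈ Z}
      mul_mem' := fun {a b} ha hb z hz => by rw [mul_assoc]; exact ha _ (hb z hz)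
      one_mem' := fun z hz => by rwa [one_mul]
      add_mem' := fun {a b} ha hb z hz => by rw [add_mul]; exact Z.add_mem (ha z hz) (hb z hz)
      zero_mem' := fun z hz => by rw [zero_mul]; exact Z.zero_mem
      algebraMap_mem' := fun t z hz => by rw [← Algebra.smul_def]; exact Z.smul_mem t hz }
  have hA : γ ∈ A := hγ
  rcases eq_bot_or_eq_top A with h | h
  · rw [h] at hA
    exact Algebra.mem_bot.1 hA
  · exfalso
    obtain ⟨z, hz, hz0⟩ := Submodule.exists_mem_ne_zero_of_ne_bot h0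
    refine h1 (eq_top_iff.2 fun x _ => ?_)
    have hx : x / z ∈ A := h ▸ Algebra.mem_top
    have := hx z hz
    rwa [div_mul_cancel₀ _ hz0] at this

omit S in
theorem finrank_sup_one {X : Submodule F (ι → F)} {y : ι → F} (hy : y ∉ X) :
    finrank F ↥(X ⊔ Submodule.span F {y}) = finrank F X + 1 := by
  have hy0 : y ≠ 0 := fun h => hy (h ▸ X.zero_mem)
  have h1 := Submodule.finrank_sup_add_finrank_inf_eq X (Submodule.span F {y})
  have h2 : X ⊓ Submodule.span F {y} = ⊥ := by
    refine (Submodule.eq_bot_iff _).2 fun z hz => ?_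
    obtain ⟨t, rfl⟩ := Submodule.mem_span_singleton.1 hz.2
    by_contra h0
    exact hy ((Submodule.smul_mem_iff _ (fun ht : t = 0 => h0 (by rw [ht, zero_smul]))).1 hz.1)
  rw [h2, finrank_bot, finrank_span_singleton hy0] at h1
  omega

/-- The easy step: a vector outside the line which is orthogonal to it. -/
theorem Setup.good_succ_of_orth [hW : Wide F ι L] {M : Subgroup (O q)} (hM : HasLin L M) {u : ι → F} {c : O q}
    (P : IsPair q τ M u c) (he : 1 ≤ finrank F ↥(line L u ⊓ img c (line L u)))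
    (he' : finrank F ↥(line L u ⊓ img c (line L u)) + 1 < finrank F L) {y₁ : ι → F}
    (hy₁ : y₁ ∈ img c (line L u)) (hy₁u : y₁ ∉ line L u) (hy₁o : kb q τ u y₁ = 0) :
    Good q τ M (finrank F ↥(line L u ⊓ img c (line L u)) + 1) := by
  have := S.finiteL
  obtain ⟨Y, hYdef⟩ : ∃ Y, Y = img c (line L u) := ⟨_, rfl⟩
  rw [← hYdef] at he he' hy₁ ⊢
  have hYr : finrank F Y = finrank F L := by rw [hYdef, finrank_img, finrank_line P.ne]
  have hu := P.sing
  obtain ⟨E, hE⟩ : ∃ E, E = line L u ⊓ Y := ⟨_, rfl⟩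
  rw [← hE] at he he' ⊢
  have hEY : E ≤ Y := hE ▸ inf_le_right
  have hEu : E ≤ line L u := hE ▸ inf_le_left
  obtain ⟨X, hX⟩ : ∃ X, X = E ⊔ Submodule.span F {y₁} := ⟨_, rfl⟩
  have hy1E : y₁ ∉ E := fun h => hy₁u (hEu h)
  have hXY : X ≤ Y := hX ▸ sup_le hEY ((Submodule.span_singleton_le_iff_mem _ _).2 hy₁)
  have hfin : finrank F X = finrank F E + 1 := by rw [hX]; exact finrank_sup_one hy1E
  have done : ∀ h ∈ M, img h Y ≠ Y → (∀ x ∈ X, app h x ∈ Y) → Good q τ M (finrank F E + 1) := by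
    intro h hh hne hX'
    rw [← hfin]
    subst hYdef
    exact S.good_of_move P hh hne hXY hX' fun hr => by omega
  by_cases hβ : ∃ y ∈ Y, kb q τ y u ≠ 0
  · obtain ⟨y, hy, hyu⟩ := hβ
    obtain ⟨v₀, hv₀, hv₀u⟩ : ∃ v₀ ∈ S.kperp ![u, y₁], v₀ ∉ Submodule.span L {u} := by
      by_contra hc
      push Not at hc
      have h1 := Submodule.finrank_mono (show S.kperp ![u, y₁] ≤ Submodule.span L {u} from hc)
      have h2 := S.le_finrank_kperp ![u, y₁]
      have h3 := S.four_le
      rw [finrank_span_singleton P.ne] at h1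
      omega
    obtain ⟨h, hh, hne, hfix⟩ := S.exists_moving hM hYr hu (S.mem_kperp.1 hv₀ 0)
      (fun k hk => hv₀u (hk ▸ Submodule.smul_mem _ _ (Submodule.mem_span_singleton_self u))) hy hyu
    refine done h hh hne fun x hx => ?_
    rw [hfix x ?_ ?_]
    · exact hXY hx
    · rw [hX] at hx
      obtain ⟨e, he, z, hz, rfl⟩ := Submodule.mem_sup.1 hx
      obtain ⟨k, rfl⟩ := mem_line.1 (hEu he)
      obtain ⟨t, rfl⟩ := Submodule.mem_span_singleton.1 hz
      rw [← algebraMap_smul L t y₁, S.kb_add_right, S.kb_smul_right, S.kb_smul_right, hu, hy₁o]; ring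
    · rw [hX] at hx
      obtain ⟨e, he, z, hz, rfl⟩ := Submodule.mem_sup.1 hx
      obtain ⟨k, rfl⟩ := mem_line.1 (hEu he)
      obtain ⟨t, rfl⟩ := Submodule.mem_span_singleton.1 hz
      have e1 : kb q τ v₀ u = 0 := by rw [S.kb_comm]; exact S.mem_kperp.1 hv₀ 0
      have e2 : kb q τ v₀ y₁ = 0 := by rw [S.kb_comm]; exact S.mem_kperp.1 hv₀ 1
      rw [← algebraMap_smul L t y₁, S.kb_add_right, S.kb_smul_right, S.kb_smul_right, e1, e2]; ring
  push Not at hβ
  have hTy : ∀ y ∈ Y, ∀ (v : ι → F) (huv : kb q τ u v = 0),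
      app (S.kT hu huv) y = y - kb q τ y v • u := fun y hy v huv => by
    rw [S.app_kT, hβ y hy, zero_smul, mul_zero, add_zero, add_zero]
  by_cases hU : ∃ y ∈ Y, y ∉ Submodule.span L ({u, y₁} : Set (ι → F))
  · obtain ⟨y, hy, hyU⟩ := hU
    obtain ⟨v, hv, hyv⟩ := S.exists_orth_not_mem _ hyU
    have huv : kb q τ u v = 0 := hv u (Submodule.subset_span (by simp))
    have h1v : kb q τ y₁ v = 0 := hv y₁ (Submodule.subset_span (by simp))
    have hlam : ∀ k : L, kb q τ u (k • v) = 0 := fun k => by rw [S.kb_smul_right, huv, mul_zero]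
    by_contra hc
    have hstab : ∀ k : L, app (S.kT hu (hlam k)) y ∈ Y := fun k => by
      by_cases h : img (S.kT hu (hlam k)) Y = Y
      · rw [← h]; exact app_mem_img hy
      · refine absurd (done _ (S.kT_mem hM hu (hlam k)) h fun x hx => ?_) hc
        rw [hX] at hx
        obtain ⟨e, he, z, hz, rfl⟩ := Submodule.mem_sup.1 hx
        obtain ⟨l, rfl⟩ := mem_line.1 (hEu he)
        obtain ⟨t, rfl⟩ := Submodule.mem_span_singleton.1 hz
        rw [S.kT_fix hu (hlam k) (by rw [← algebraMap_smul L t y₁, S.kb_add_right, S.kb_smul_right,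
          S.kb_smul_right, hu, hy₁o]; ring) (by
          rw [← algebraMap_smul L t y₁, S.kb_add_right, S.kb_smul_right, S.kb_smul_right, S.kb_smul_left,
            S.kb_smul_left, S.kb_comm v u, huv, S.kb_comm v y₁, h1v]; ring)]
        exact Y.add_mem (hEY he) (Y.smul_mem _ hy₁)
    have hle : line L u ≤ Y := fun x hx => by
      obtain ⟨k, rfl⟩ := mem_line.1 hx
      have h1 := Y.sub_mem hy (hstab (k / kb q τ y v))
      rwa [hTy y hy, sub_sub_cancel, S.kb_smul_right, div_mul_cancel₀ _ hyv] at h1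
    exact P.move (by
      rw [hYdef] at hle
      exact (Submodule.eq_of_le_of_finrank_eq hle (by rw [finrank_img])).symm)
  push Not at hU
  obtain ⟨v, hv, h1v⟩ := S.exists_orth_not_mem (Submodule.span L {u}) (y := y₁)
    (fun h => hy₁u h)
  obtain ⟨v₁, hv₁⟩ : ∃ v₁, v₁ = (kb q τ y₁ v)⁻¹ • v := ⟨_, rfl⟩
  have huv : kb q τ u v₁ = 0 := by
    rw [hv₁, S.kb_smul_right, hv u (Submodule.mem_span_singleton_self u), mul_zero]
  have h1v1 : kb q τ y₁ v₁ = 1 := by rw [hv₁, S.kb_smul_right, inv_mul_cancel₀ h1v]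
  have hlam : ∀ k : L, kb q τ u (k • v₁) = 0 := fun k => by rw [S.kb_smul_right, huv, mul_zero]
  obtain ⟨Z, hZ⟩ : ∃ Z, Z = Y.comap ((LinearMap.toSpanSingleton L (ι → F) u).restrictScalars F) := ⟨_, rfl⟩
  have hmZ : ∀ k : L, k ∈ Z ↔ k • u ∈ Y := fun k => by rw [hZ]; rfl
  by_contra hc
  have hstab : ∀ k ∈ Z, ∀ y ∈ Y, app (S.kT hu (hlam k)) y ∈ Y := fun k hk y hy => by
    by_cases h : img (S.kT hu (hlam k)) Y = Y
    · rw [← h]; exact app_mem_img hy
    · refine absurd (done _ (S.kT_mem hM hu (hlam k)) h fun x hx => ?_) hc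
      rw [hX] at hx
      obtain ⟨e, he, z, hz, rfl⟩ := Submodule.mem_sup.1 hx
      obtain ⟨l, rfl⟩ := mem_line.1 (hEu he)
      obtain ⟨t, rfl⟩ := Submodule.mem_span_singleton.1 hz
      rw [map_add, LinearMap.map_smul (app (S.kT hu (hlam k))) t y₁, hTy y₁ hy₁, S.kb_smul_right, h1v1, mul_one]
      refine Y.add_mem ?_ (Y.smul_mem _ (Y.sub_mem hy₁ ((hmZ k).1 hk)))
      rw [S.kT_fix hu (hlam k) (by rw [S.kb_smul_right, hu, mul_zero]) (by
        rw [S.kb_smul_left, S.kb_smul_right, S.kb_comm v₁ u, huv, mul_zero, mul_zero])]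
      exact hEY he
  have hr := S.prime.two_le
  have hZ0 : Z ≠ ⊥ := fun h0 => by
    obtain ⟨e, he0, hne⟩ := Submodule.exists_mem_ne_zero_of_ne_bot (p := E) (fun h => by
      rw [h, finrank_bot] at he; omega)
    obtain ⟨k, rfl⟩ := mem_line.1 (hEu he0)
    have hk : k ∈ Z := (hmZ k).2 (hEY he0)
    rw [h0, Submodule.mem_bot] at hk
    exact hne (by rw [hk, zero_smul])
  have hZ1 : Z ≠ ⊤ := fun h1 => by
    have hle : line L u ≤ Y := fun x hx => by
      obtain ⟨k, rfl⟩ := mem_line.1 hx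
      exact (hmZ k).1 (h1 ▸ Submodule.mem_top)
    refine P.move ?_
    rw [hYdef] at hle
    exact (Submodule.eq_of_le_of_finrank_eq hle (by rw [finrank_img])).symm
  have hle : Y ≤ E ⊔ Submodule.span F {y₁} := fun y hy => by
    obtain ⟨α, γ, hy'⟩ := Submodule.mem_span_pair.1 (hU y hy)
    obtain ⟨t, ht⟩ := S.mult_eq_algebraMap hZ0 hZ1 (γ := γ) fun k hk => by
      have h1 := Y.sub_mem hy (hstab k hk y hy)
      rw [hTy y hy, sub_sub_cancel, S.kb_smul_right, ← hy', S.kb_add_left, S.kb_smul_left, S.kb_smul_left, huv,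
        h1v1, mul_zero, zero_add, mul_one] at h1
      rw [hmZ, mul_comm]
      exact h1
    rw [← hy', ← ht, algebraMap_smul]
    refine Submodule.add_mem_sup ?_ (Submodule.smul_mem _ _ (Submodule.mem_span_singleton_self _))
    rw [hE]
    refine ⟨smul_mem_line α u, ?_⟩
    have h2 := Y.sub_mem hy (Y.smul_mem t hy₁)
    rwa [← hy', ← ht, algebraMap_smul, add_sub_cancel_right] at h2
  have h1 := Submodule.finrank_mono hle
  rw [finrank_sup_one hy1E] at h1
  omega

theorem Setup.exists_zero_of_kills {Y : Submodule F (ι → F)} (hY : finrank F Y ≤ finrank F L)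
    (Φ : L →ₗ[F] Module.Dual F Y) {e : Y} (he : e ≠ 0) (hΦ : ∀ k, Φ k e = 0) : ∃ k, k ≠ 0 ∧ Φ k = 0 := by
  have := S.finite
  by_contra hc
  push Not at hc
  have hinj : Function.Injective Φ := (injective_iff_map_eq_zero Φ).2 fun k hk => by
    by_contra hk0
    exact hc k hk0 hk
  have h1 := LinearMap.finrank_range_of_inj hinj
  have h2 : LinearMap.range Φ ≤ (Submodule.span F {e}).dualAnnihilator := by
    rintro _ ⟨k, rfl⟩
    rw [Submodule.mem_dualAnnihilator]
    intro w hw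
    obtain ⟨t, rfl⟩ := Submodule.mem_span_singleton.1 hw
    rw [map_smul, hΦ, smul_zero]
  have h3 := Submodule.finrank_mono h2
  have h4 := Subspace.finrank_add_finrank_dualAnnihilator_eq (Submodule.span F {e})
  rw [finrank_span_singleton he] at h4
  omega

/-- The general step. -/
theorem Setup.good_succ [hW : Wide F ι L] {M : Subgroup (O q)} (hM : HasLin L M) {e : ℕ} (he1 : 1 ≤ e)
    (he2 : e + 1 < finrank F L) (hG : Good q τ M e) : Good q τ M (e + 1) := by
  have := S.finiteL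
  obtain ⟨u, c, P, he, hex⟩ := hG
  obtain ⟨d, hd⟩ : ∃ d, d = finrank F ↥(line L u ⊓ img c (line L u)) := ⟨_, rfl⟩
  rw [← hd] at he
  rcases Nat.lt_or_ge e d with hlt | hge
  · exact ⟨u, c, P, by omega, hex⟩
  obtain rfl : d = e := by omega
  by_cases h1 : ∃ y₁ ∈ img c (line L u), y₁ ∉ line L u ∧ kb q τ u y₁ = 0
  · obtain ⟨y₁, hy₁, hy₁u, hy₁o⟩ := h1
    rw [hd]
    exact S.good_succ_of_orth hM P (by omega) (by omega) hy₁ hy₁u hy₁o
  push Not at h1
  obtain ⟨Y, hYdef⟩ : ∃ Y, Y = img c (line L u) := ⟨_, rfl⟩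
  rw [← hYdef] at hd h1
  have hYr : finrank F Y = finrank F L := by rw [hYdef, finrank_img, finrank_line P.ne]
  have hu := P.sing
  obtain ⟨E, hE⟩ : ∃ E, E = line L u ⊓ Y := ⟨_, rfl⟩
  rw [← hE] at hd
  have hEY : E ≤ Y := hE ▸ inf_le_right
  have hEu : E ≤ line L u := hE ▸ inf_le_left
  have hmE : ∀ y ∈ Y, kb q τ u y = 0 → y ∈ E := fun y hy hyo => by
    by_contra h
    exact h1 y hy (fun hl => h (hE ▸ ⟨hl, hy⟩)) hyo
  obtain ⟨y₀, hy₀, hy₀u⟩ : ∃ y₀ ∈ Y, y₀ ∉ line L u := by
    by_contra hc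
    push Not at hc
    rw [hYdef] at hc
    exact P.move (Submodule.eq_of_le_of_finrank_eq (show img c (line L u) ≤ line L u from hc)
      (by rw [finrank_img]))
  have hb0 : kb q τ u y₀ ≠ 0 := h1 y₀ hy₀ hy₀u
  obtain ⟨α, γ, hu', huu'⟩ := S.exists_partner hu hb0
  obtain ⟨u', hu'def⟩ : ∃ u', u' = α • y₀ + γ • u := ⟨_, rfl⟩
  rw [← hu'def] at hu' huu'
  have hα : α ≠ 0 := fun h => by
    rw [hu'def, h, zero_smul, zero_add, S.kb_smul_right, hu, mul_zero] at huu'
    exact zero_ne_one huu'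
  have hy0span : ∃ a b : L, y₀ = a • u + b • u' := by
    refine ⟨-(α⁻¹ * γ), α⁻¹, ?_⟩
    rw [hu'def, smul_add, smul_smul, smul_smul, inv_mul_cancel₀ hα, one_smul, neg_smul]
    abel
  have hNy0 : ∀ v ∈ S.kperp ![u, u'], kb q τ y₀ v = 0 := fun v hv => by
    obtain ⟨a, b, hab⟩ := hy0span
    rw [hab, S.kb_add_left, S.kb_smul_left, S.kb_smul_left, show kb q τ u v = 0 from S.mem_kperp.1 hv 0,
      show kb q τ u' v = 0 from S.mem_kperp.1 hv 1]
    ring
  obtain ⟨e₀, he₀, he₀0⟩ := Submodule.exists_mem_ne_zero_of_ne_bot (p := E) (fun h => by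
    rw [h, finrank_bot] at hd; omega)
  obtain ⟨k₀, hk₀⟩ := mem_line.1 (hEu he₀)
  obtain ⟨β₀, hβ₀⟩ : ∃ β₀, β₀ = kb q τ y₀ u := ⟨_, rfl⟩
  have hβ0 : β₀ ≠ 0 := by rw [hβ₀, S.kb_comm]; exact hb0
  have hy0y : ∀ y ∈ Y, polar q y₀ y = 0 := fun y hy => by
    rw [hYdef] at hy hy₀
    exact S.polar_img_line hu c hy₀ hy
  have hEfix : ∀ x ∈ E, kb q τ u x = 0 := fun x hx => by
    obtain ⟨k, rfl⟩ := mem_line.1 (hEu hx)
    rw [S.kb_smul_right, hu, mul_zero]
  -- finishing with a suitable vector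
  have fin : ∀ v ∈ S.kperp ![u, u'], v ≠ 0 →
      (∀ y ∈ Y, τ (β₀ * (kb q τ y v + kb q τ v v / 2 * kb q τ y u)) = 0) → Good q τ M (d + 1) := by
    intro v hv hv0 hvY
    have huv : kb q τ u v = 0 := S.mem_kperp.1 hv 0
    obtain ⟨T, hT⟩ : ∃ T, T = S.kT hu huv := ⟨_, rfl⟩
    have hTM : T ∈ M := hT ▸ S.kT_mem hM hu huv
    have hTE : ∀ x ∈ E, app T x = x := fun x hx => by
      obtain ⟨k, rfl⟩ := mem_line.1 (hEu hx)
      rw [hT]
      exact S.kT_fix hu huv (hEfix _ hx) (by rw [S.kb_smul_right, S.kb_comm v u, huv, mul_zero])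
    have hTne : img T Y ≠ Y := fun h => by
      have h2 : app T y₀ - y₀ ∈ Y := Y.sub_mem (h ▸ app_mem_img hy₀) hy₀
      rw [hT, S.app_kT, hNy0 v hv, zero_add, sub_right_comm, add_sub_cancel_left, ← hβ₀] at h2
      have h3 := hmE _ h2 (by rw [S.kb_sub_right, S.kb_smul_right, S.kb_smul_right, huv, hu]; ring)
      obtain ⟨k, hk⟩ := mem_line.1 (hEu h3)
      refine hv0 (S.pair_nondeg hu hu' huu' hv fun w hw => ?_)
      have h4 := congrArg (fun z => kb q τ z w) hk
      simp only [S.kb_sub_left, S.kb_smul_left, show kb q τ u w = 0 from S.mem_kperp.1 hw 0, mul_zero,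
        sub_zero] at h4
      exact (mul_eq_zero.1 h4.symm).resolve_left hβ0
    subst hYdef
    have P' := P.conj hTM hTne
    obtain ⟨Y', hY'⟩ : ∃ Y', Y' = img (c⁻¹ * T * c) (line L u) := ⟨_, rfl⟩
    have hle : d ≤ finrank F ↥(line L u ⊓ Y') := by
      rw [hd, hY', ← finrank_img c⁻¹ E]
      refine Submodule.finrank_mono fun x hx => ?_
      rw [mem_img, inv_inv] at hx
      refine ⟨mem_img.1 (hEY hx) |> fun h => by rwa [app_inv_app] at h, ?_⟩
      rw [SetLike.mem_coe, mem_img, show (c⁻¹ * T * c)⁻¹ = c⁻¹ * T⁻¹ * c by group, app_mul, app_mul]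
      have := app_inv_app T (app c x)
      rw [hTE _ hx] at this
      rw [this, app_inv_app]
      have := mem_img.1 (hEY hx)
      rwa [app_inv_app] at this
    by_cases hgt : d + 1 ≤ finrank F ↥(line L u ⊓ Y')
    · exact ⟨u, _, P', hY' ▸ hgt, fun hr => by omega⟩
    obtain ⟨Y₀, hY₀⟩ : ∃ Y₀, Y₀ = app c⁻¹ y₀ := ⟨_, rfl⟩
    have hY0u : Y₀ ∈ line L u := hY₀ ▸ mem_img.1 hy₀
    have horth : ∀ y ∈ Y', polar q Y₀ y = 0 := fun y hy => by
      rw [hY', mem_img, show (c⁻¹ * T * c)⁻¹ = c⁻¹ * T⁻¹ * c by group, app_mul, app_mul] at hy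
      obtain ⟨z, hz⟩ : ∃ z, z = app T⁻¹ (app c y) := ⟨_, rfl⟩
      rw [← hz] at hy
      have hzY : z ∈ img c (line L u) := mem_img.2 hy
      rw [hY₀, ← polar_app c, app_app_inv, show app c y = app T z by rw [hz, app_app_inv], hT, S.app_kT,
        sub_eq_add_neg, ← neg_smul, polar_add_right, polar_add_right, hy0y z hzY, zero_add]
      rw [S.polar_eq, S.kb_smul_right, hNy0 v hv, mul_zero, map_zero, zero_add, S.polar_eq, S.kb_smul_right,
        neg_mul, map_neg, neg_eq_zero, mul_comm, ← hβ₀]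
      exact hvY z hzY
    have hY0n : Y₀ ∉ Y' := fun h => by
      apply hgt
      have hy0E : y₀ ∉ E := fun h' => hy₀u (hEu h')
      rw [show d + 1 = finrank F ↥(E ⊔ Submodule.span F {y₀}) by rw [finrank_sup_one hy0E, hd], ← finrank_img c⁻¹ (E ⊔ _)]
      refine Submodule.finrank_mono ?_
      rw [img, Submodule.map_sup, sup_le_iff]
      constructor
      · rintro _ ⟨x, hx, rfl⟩
        refine ⟨mem_img.1 (hEY hx), ?_⟩
        rw [SetLike.mem_coe, hY', mem_img, show (c⁻¹ * T * c)⁻¹ = c⁻¹ * T⁻¹ * c by group, app_mul, app_mul,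
          app_app_inv]
        have := app_inv_app T x
        rw [hTE _ hx] at this
        rw [this]
        exact mem_img.1 (hEY hx)
      · rw [Submodule.map_span, Set.image_singleton, Submodule.span_singleton_le_iff_mem, ← hY₀]
        exact ⟨hY0u, h⟩
    have hY'r : finrank F Y' = finrank F L := by rw [hY', finrank_img, finrank_line P.ne]
    obtain ⟨ψ, hψ⟩ : ∃ ψ : Y' →ₗ[F] Module.Dual F (line L u),
        ψ = (q.polarBilin.domRestrict Y').compl₂ (line L u).subtype := ⟨_, rfl⟩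
    have hψa : ∀ (y : Y') (w : line L u), ψ y w = polar q (y : ι → F) w := fun y w => by rw [hψ]; rfl
    obtain ⟨Xb, hXb⟩ : ∃ Xb, Xb = (line L u ⊓ Y') ⊔ Submodule.span F {Y₀} := ⟨_, rfl⟩
    have hXbl : Xb ≤ line L u := hXb ▸ sup_le inf_le_left ((Submodule.span_singleton_le_iff_mem _ _).2 hY0u)
    have hXbr : finrank F Xb = finrank F ↥(line L u ⊓ Y') + 1 := by
      rw [hXb]; exact finrank_sup_one fun h => hY0n h.2
    have hrange : LinearMap.range ψ ≤ (Xb.comap (line L u).subtype).dualAnnihilator := by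
      rintro _ ⟨y, rfl⟩
      rw [Submodule.mem_dualAnnihilator]
      intro w hw
      rw [hψa]
      rw [Submodule.mem_comap, Submodule.coe_subtype, hXb] at hw
      obtain ⟨a, ha, b, hb, hab⟩ := Submodule.mem_sup.1 hw
      obtain ⟨t, rfl⟩ := Submodule.mem_span_singleton.1 hb
      rw [← hab, polar_add_right, polar_smul_right, polar_comm (f := ⇑q) (y : ι → F) Y₀, horth _ y.2, smul_zero,
        add_zero]
      exact S.polar_img_line hu _ (hY' ▸ y.2) (hY' ▸ ha.2)
    have h5 := Subspace.finrank_add_finrank_dualAnnihilator_eq (Xb.comap (line L u).subtype)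
    rw [(Submodule.comapSubtypeEquivOfLe hXbl).finrank_eq, hXbr, finrank_line P.ne] at h5
    have h6 := Submodule.finrank_mono hrange
    have h7 := LinearMap.finrank_range_add_finrank_ker ψ
    obtain ⟨y₁, hy₁, hy₁u⟩ : ∃ y ∈ LinearMap.ker ψ, (y : ι → F) ∉ line L u := by
      by_contra hc
      push Not at hc
      have h8 : (LinearMap.ker ψ).map Y'.subtype ≤ line L u ⊓ Y' := by
        rintro _ ⟨y, hy, rfl⟩
        exact ⟨hc y hy, y.2⟩
      have h9 := Submodule.finrank_mono h8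
      rw [(Submodule.equivMapOfInjective _ Y'.subtype_injective _).finrank_eq.symm] at h9
      omega
    have hy₁o : kb q τ u y₁ = 0 := S.kb_eq_zero fun k => by
      have := LinearMap.congr_fun (LinearMap.mem_ker.1 hy₁) ⟨k • u, smul_mem_line k u⟩
      rw [hψa, LinearMap.zero_apply] at this
      rwa [polar_comm]
    have hY'mem : (y₁ : ι → F) ∈ Y' := y₁.2
    subst hY'
    have hfin := S.good_succ_of_orth hM P' (by omega) (by omega) hY'mem hy₁u hy₁o
    rwa [show finrank F ↥(line L u ⊓ img (c⁻¹ * T * c) (line L u)) = d by omega] at hfin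
  -- choosing the vector
  by_cases hiso : ∃ v₀ ∈ S.kperp ![u, u'], v₀ ≠ 0 ∧ kb q τ v₀ v₀ = 0
  · obtain ⟨v₀, hv₀, hv00, hv₀s⟩ := hiso
    let Φ : L →ₗ[F] Module.Dual F Y :=
      LinearMap.mk₂ F (fun (k : L) (y : Y) => τ (β₀ * (k * kb q τ y v₀)))
        (fun a b y => by rw [add_mul, mul_add, map_add])
        (fun t a y => by rw [smul_mul_assoc, mul_smul_comm, map_smul, smul_eq_mul])
        (fun a y y' => by rw [Submodule.coe_add, S.kb_add_left, mul_add, mul_add, map_add])
        (fun t a y => by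
          rw [Submodule.coe_smul, ← algebraMap_smul L t (y : ι → F), S.kb_smul_left, ← Algebra.smul_def,
            mul_smul_comm, mul_smul_comm, map_smul, smul_eq_mul])
    obtain ⟨k, hk, hΦ⟩ := S.exists_zero_of_kills hYr.le Φ (e := ⟨e₀, hEY he₀⟩)
      (fun h => he₀0 (congrArg Subtype.val h)) fun k => by
        show τ (β₀ * (k * kb q τ e₀ v₀)) = 0
        rw [← hk₀, S.kb_smul_left, show kb q τ u v₀ = 0 from S.mem_kperp.1 hv₀ 0, mul_zero, mul_zero, mul_zero,
          map_zero]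
    refine fin (k • v₀) (Submodule.smul_mem _ _ hv₀) (smul_ne_zero hk hv00) fun y hy => ?_
    rw [S.kb_smul_right, S.kb_smul_left, S.kb_smul_right, hv₀s, mul_zero, mul_zero, zero_div, zero_mul, add_zero]
    exact LinearMap.congr_fun hΦ ⟨y, hy⟩
  push Not at hiso
  by_cases hπ : ∀ y ∈ Y, ∀ v ∈ S.kperp ![u, u'], kb q τ y v = 0
  · let Φ : L →ₗ[F] Module.Dual F Y :=
      LinearMap.mk₂ F (fun (k : L) (y : Y) => τ (β₀ * (k / 2 * kb q τ y u)))
        (fun a b y => by rw [add_div, add_mul, mul_add, map_add])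
        (fun t a y => by rw [smul_div_assoc, smul_mul_assoc, mul_smul_comm, map_smul, smul_eq_mul])
        (fun a y y' => by rw [Submodule.coe_add, S.kb_add_left, mul_add, mul_add, map_add])
        (fun t a y => by
          rw [Submodule.coe_smul, ← algebraMap_smul L t (y : ι → F), S.kb_smul_left, ← Algebra.smul_def,
            mul_smul_comm, mul_smul_comm, map_smul, smul_eq_mul])
    obtain ⟨k, hk, hΦ⟩ := S.exists_zero_of_kills hYr.le Φ (e := ⟨e₀, hEY he₀⟩)
      (fun h => he₀0 (congrArg Subtype.val h)) fun k => by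
        show τ (β₀ * (k / 2 * kb q τ e₀ u)) = 0
        rw [S.kb_comm, hEfix _ he₀, mul_zero, mul_zero, map_zero]
    obtain ⟨v, hv, hvv⟩ := S.exists_value_pair hu hu' huu' k
    refine fin v hv (fun h => hk ?_) fun y hy => ?_
    · rw [← hvv, h, S.kb_zero_left]
    · rw [hπ y hy v hv, zero_add, hvv]
      exact LinearMap.congr_fun hΦ ⟨y, hy⟩
  push Not at hπ
  obtain ⟨y, hy, w, hw, hyw⟩ := hπ
  obtain ⟨z, hz⟩ : ∃ z, z = y - kb q τ y u' • u - kb q τ y u • u' := ⟨_, rfl⟩
  have hzN : z ∈ S.kperp ![u, u'] := hz ▸ S.sub_mem_pair hu hu' huu' y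
  have hz0 : z ≠ 0 := fun h => hyw (by
    have h2 := congrArg (fun x => kb q τ x w) (hz.symm.trans h)
    simp only [S.kb_sub_left, S.kb_smul_left, show kb q τ u w = 0 from S.mem_kperp.1 hw 0,
      show kb q τ u' w = 0 from S.mem_kperp.1 hw 1, mul_zero, sub_zero, S.kb_zero_left] at h2
    exact h2)
  obtain ⟨e, he3, he30⟩ := Submodule.exists_mem_ne_zero_of_ne_bot (p := S.kperp ![u, u', z]) (fun h => by
    have h2 := S.le_finrank_kperp ![u, u', z]
    have h3 := S.four_le
    rw [h, finrank_bot] at h2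
    omega)
  have heN : e ∈ S.kperp ![u, u'] := S.mem_kperp.2 fun i => by
    fin_cases i
    · exact S.mem_kperp.1 he3 0
    · exact S.mem_kperp.1 he3 1
  have hze : kb q τ z e = 0 := S.mem_kperp.1 he3 2
  have hzz : kb q τ z z ≠ 0 := hiso z hzN hz0
  have hee : kb q τ e e ≠ 0 := hiso e heN he30
  have hzee : kb q τ (z + e) (z + e) ≠ 0 := hiso _ (Submodule.add_mem _ hzN heN) fun h => hzz (by
    rw [show kb q τ z z = kb q τ z (z + e) by rw [S.kb_add_right, hze, add_zero], h, S.kb_zero_right])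
  have huz : kb q τ u z = 0 := S.mem_kperp.1 hzN 0
  have hu'z : kb q τ u' z = 0 := S.mem_kperp.1 hzN 1
  have hue : kb q τ u e = 0 := S.mem_kperp.1 heN 0
  have hu'e : kb q τ u' e = 0 := S.mem_kperp.1 heN 1
  obtain ⟨h, hh⟩ : ∃ h, h = S.rot hzz hzee := ⟨_, rfl⟩
  have hfixU : ∀ a b : L, app h (a • u + b • u') = a • u + b • u' := fun a b => by
    rw [hh]
    refine S.rot_fix hzz hzee ?_ ?_ <;>
      simp only [S.kb_add_left, S.kb_add_right, S.kb_smul_left, huz, hu'z, hue, hu'e, mul_zero, add_zero]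
  have hfix : app h z - z = app h y - y := by
    have h2 : y = z + (kb q τ y u' • u + kb q τ y u • u') := by rw [hz]; abel
    conv_rhs => rw [h2, map_add, hfixU]
    abel
  have hdiff : kb q τ u (app h z - z) = 0 ∧ kb q τ u' (app h z - z) = 0 := by
    have hkl : ∀ a, kb q τ a z = 0 → app h a = a → kb q τ a (app h z - z) = 0 := fun a ha hfa => by
      rw [S.kb_sub_right, ha, sub_zero]
      refine S.kb_eq_zero fun k => ?_
      have hlin : IsKLin L h := by
        rw [hh, Setup.rot, commutatorElement_def]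
        exact ((S.kIso_lin.mul S.kIso_lin).mul S.kIso_lin.inv).mul S.kIso_lin.inv
      rw [← hfa, ← hlin, polar_app, S.polar_eq, S.kb_smul_left, ha, mul_zero, map_zero]
    refine ⟨hkl u huz ?_, hkl u' hu'z ?_⟩
    · have := hfixU 1 0; simpa using this
    · have := hfixU 0 1; simpa using this
  have hne : img h Y ≠ Y := fun heq => by
    refine S.rot_ne hzz hzee hze hee ?_
    rw [← hh, ← sub_eq_zero]
    have h2 : app h z - z ∈ Y := hfix ▸ Y.sub_mem (heq ▸ app_mem_img hy) hy
    obtain ⟨k, hk⟩ := mem_line.1 (hEu (hmE _ h2 hdiff.1))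
    have h3 := hdiff.2
    rw [← hk, S.kb_smul_right, S.kb_comm, huu', mul_one] at h3
    rw [← hk, h3, zero_smul]
  have hy0E : y₀ ∉ E := fun h' => hy₀u (hEu h')
  rw [show d + 1 = finrank F ↥(E ⊔ Submodule.span F {y₀}) by rw [finrank_sup_one hy0E, hd]]
  subst hYdef
  refine S.good_of_move P (hh ▸ S.rot_mem hM hzz hzee) hne
    (sup_le hEY ((Submodule.span_singleton_le_iff_mem _ _).2 hy₀)) (fun x hx => ?_) fun hr => by omega
  obtain ⟨a, ha, b, hb, rfl⟩ := Submodule.mem_sup.1 hx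
  obtain ⟨t, rfl⟩ := Submodule.mem_span_singleton.1 hb
  obtain ⟨k, rfl⟩ := mem_line.1 (hEu ha)
  obtain ⟨a', b', hab⟩ := hy0span
  have e1 : app h (k • u) = k • u := by simpa using hfixU k 0
  rw [map_add, LinearMap.map_smul (app h) t y₀, e1, show app h y₀ = y₀ by rw [hab]; exact hfixU a' b']
  exact Submodule.add_mem _ (hEY ha) (Submodule.smul_mem _ _ hy₀)

/-- The start. -/
theorem Setup.good_one [hW : Wide F ι L] {M : Subgroup (O q)} (hM : HasLin L M) {g : O q} (hg : g ∈ M) {u : ι → F} (hu0 : u ≠ 0)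
    (hu : kb q τ u u = 0) (hbreak : ∀ a : ι → F, img g (line L u) ≠ line L a) : Good q τ M 1 := by
  have := S.finiteL
  have P : IsPair q τ M u g := ⟨hu0, hu, hg, hbreak u⟩
  obtain ⟨Y, hYdef⟩ : ∃ Y, Y = img g (line L u) := ⟨_, rfl⟩
  have hYr : finrank F Y = finrank F L := by rw [hYdef, finrank_img, finrank_line hu0]
  obtain ⟨y₁, hy₁, hy₁0⟩ := Submodule.exists_mem_ne_zero_of_ne_bot (p := Y) (fun h => by
    rw [h, finrank_bot] at hYr; have := S.prime.pos; omega)
  obtain ⟨y, hy, hyl⟩ : ∃ y ∈ Y, y ∉ line L y₁ := by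
    by_contra hc
    push Not at hc
    refine hbreak y₁ ?_
    rw [← hYdef]
    exact Submodule.eq_of_le_of_finrank_eq hc (by rw [hYr, finrank_line hy₁0])
  have done : ∀ h ∈ M, img h Y ≠ Y → app h y₁ = y₁ →
      (finrank F L = 2 → ∃ a ∈ Y, ∃ b ∈ Y, polar q a (app h b) ≠ 0) → Good q τ M 1 := by
    intro h hh hne hfix hex
    subst hYdef
    rw [show 1 = finrank F ↥(Submodule.span F {y₁}) from (finrank_span_singleton hy₁0).symm]
    refine S.good_of_move P hh hne ((Submodule.span_singleton_le_iff_mem _ _).2 hy₁) (fun x hx => ?_) hex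
    obtain ⟨t, rfl⟩ := Submodule.mem_span_singleton.1 hx
    rw [map_smul, hfix]
    exact Submodule.smul_mem _ _ hy₁
  have hpol : ∀ a ∈ Y, ∀ b ∈ Y, polar q a b = 0 := fun a ha b hb => by
    rw [hYdef] at ha hb
    exact S.polar_img_line hu g ha hb
  by_cases hr2 : finrank F L = 2
  · have h7 := S.five_le hr2
    have hyl' : y ∉ Submodule.span L {y₁} := hyl
    obtain ⟨p, hp, hp1, hyp⟩ : ∃ p, kb q τ p p = 0 ∧ kb q τ y₁ p = 0 ∧ kb q τ y p ≠ 0 := by
      by_cases hs : kb q τ y₁ y₁ = 0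
      · by_cases h1 : kb q τ y y₁ = 0
        swap
        · exact ⟨y₁, hs, hs, h1⟩
        obtain ⟨z, hz⟩ := S.exists_pairing hy₁0
        obtain ⟨α, γ, hy', hyy'⟩ := S.exists_partner hs hz
        obtain ⟨y', hy'def⟩ : ∃ y', y' = α • z + γ • y₁ := ⟨_, rfl⟩
        rw [← hy'def] at hy' hyy'
        have hmem := S.sub_mem_pair hs hy' hyy' y
        rw [h1, zero_smul, sub_zero] at hmem
        obtain ⟨p, hp, hpp, hzp⟩ := S.exists_detect (S.kperp ![y₁, y'])
          (by have := S.le_finrank_kperp ![y₁, y']; omega)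
          (fun x hx hxx => S.pair_nondeg hs hy' hyy' hx hxx) hmem
          (fun h => hyl' (Submodule.mem_span_singleton.2 ⟨kb q τ y y', (sub_eq_zero.1 h).symm⟩))
        refine ⟨p, hpp, S.mem_kperp.1 hp 0, ?_⟩
        rwa [S.kb_sub_left, S.kb_smul_left, show kb q τ y₁ p = 0 from S.mem_kperp.1 hp 0, mul_zero,
          sub_zero] at hzp
      · have hmem : y - (kb q τ y₁ y / kb q τ y₁ y₁) • y₁ ∈ S.kperp ![y₁] := S.mem_kperp.2 fun i => by
          fin_cases i
          show kb q τ y₁ _ = 0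
          rw [S.kb_sub_right, S.kb_smul_right, div_mul_cancel₀ _ hs, sub_self]
        obtain ⟨p, hp, hpp, hzp⟩ := S.exists_detect (S.kperp ![y₁])
          (by have := S.le_finrank_kperp ![y₁]; omega)
          (fun x hx hxx => S.kb_nondeg fun w => by
            have hx1 : kb q τ x y₁ = 0 := by rw [S.kb_comm]; exact S.mem_kperp.1 hx 0
            have := hxx (w - (kb q τ y₁ w / kb q τ y₁ y₁) • y₁) (S.mem_kperp.2 fun i => by
              fin_cases i
              show kb q τ y₁ _ = 0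
              rw [S.kb_sub_right, S.kb_smul_right, div_mul_cancel₀ _ hs, sub_self])
            rwa [S.kb_sub_right, S.kb_smul_right, hx1, mul_zero, sub_zero] at this) hmem
          (fun h => hyl' (Submodule.mem_span_singleton.2 ⟨_, (sub_eq_zero.1 h).symm⟩))
        refine ⟨p, hpp, S.mem_kperp.1 hp 0, ?_⟩
        rwa [S.kb_sub_left, S.kb_smul_left, show kb q τ y₁ p = 0 from S.mem_kperp.1 hp 0, mul_zero,
          sub_zero] at hzp
    obtain ⟨a, ha, haa⟩ := S.exists_aniso (S.kperp ![y₁, p])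
      (by have := S.le_finrank_kperp ![y₁, p]; omega)
    obtain ⟨k, hk⟩ := S.exists_scale (c := kb q τ a a / 2 * kb q τ y p * kb q τ y p)
      (mul_ne_zero (mul_ne_zero (div_ne_zero haa S.two') hyp) hyp)
    have hpv : kb q τ p (k • a) = 0 := by rw [S.kb_smul_right, show kb q τ p a = 0 from S.mem_kperp.1 ha 1, mul_zero]
    have hP : polar q y (app (S.kT hp hpv) y) ≠ 0 := by
      rw [S.app_kT, sub_eq_add_neg, polar_add_right, polar_add_right, hpol y hy y hy, zero_add, S.polar_eq,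
        S.polar_eq, ← map_add, S.kb_neg_right]
      simp only [S.kb_smul_left, S.kb_smul_right]
      refine fun h => hk ?_
      rw [← neg_eq_zero, ← map_neg]
      convert h using 2
      ring
    refine done _ (S.kT_mem hM hp hpv) (fun h => hP (hpol y hy _ (h ▸ app_mem_img hy))) ?_
      fun _ => ⟨y, hy, y, hy, hP⟩
    exact S.kT_fix hp hpv (by rw [S.kb_comm]; exact hp1)
      (by rw [S.kb_smul_left, S.kb_comm a y₁, show kb q τ y₁ a = 0 from S.mem_kperp.1 ha 0, mul_zero])
  by_cases hs : kb q τ y₁ y₁ = 0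
  · by_cases hall : ∃ z ∈ Y, kb q τ z y₁ ≠ 0
    · obtain ⟨z, hz, hzy⟩ := hall
      obtain ⟨v₀, hv₀, hv₀n⟩ : ∃ v₀ ∈ S.kperp ![y₁], v₀ ∉ Submodule.span L {y₁} := by
        by_contra hc
        push Not at hc
        have h1 := Submodule.finrank_mono (show S.kperp ![y₁] ≤ Submodule.span L {y₁} from hc)
        have h2 := S.le_finrank_kperp ![y₁]
        have h3 := S.four_le
        rw [finrank_span_singleton hy₁0] at h1
        omega
      obtain ⟨h, hh, hne, hfix⟩ := S.exists_moving hM hYr hs (S.mem_kperp.1 hv₀ 0)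
        (fun k hk => hv₀n (hk ▸ Submodule.smul_mem _ _ (Submodule.mem_span_singleton_self y₁))) hz hzy
      exact done h hh hne (hfix y₁ hs (by rw [S.kb_comm]; exact S.mem_kperp.1 hv₀ 0)) fun h => absurd h hr2
    push Not at hall
    obtain ⟨v, hv, hyv⟩ := S.exists_orth_not_mem (Submodule.span L {y₁}) (y := y) hyl
    have h1v : kb q τ y₁ v = 0 := hv _ (Submodule.mem_span_singleton_self y₁)
    have hlam : ∀ k : L, kb q τ y₁ (k • v) = 0 := fun k => by rw [S.kb_smul_right, h1v, mul_zero]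
    by_contra hc
    have hle : line L y₁ ≤ Y := fun x hx => by
      obtain ⟨k, rfl⟩ := mem_line.1 hx
      obtain ⟨T, hT⟩ : ∃ T, T = S.kT hs (hlam (k / kb q τ y v)) := ⟨_, rfl⟩
      have hfix : app T y₁ = y₁ := by
        rw [hT]; exact S.kT_fix hs _ hs (by rw [S.kb_smul_left, S.kb_comm v y₁, h1v, mul_zero])
      by_cases h : img T Y = Y
      · have h1 := Y.sub_mem hy (h ▸ app_mem_img (g := T) hy)
        rwa [hT, S.app_kT, hall y hy, zero_smul, add_zero, mul_zero, add_zero, sub_sub_cancel, S.kb_smul_right,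
          div_mul_cancel₀ _ hyv] at h1
      · exact absurd (done T (hT ▸ S.kT_mem hM hs _) h hfix fun h => absurd h hr2) hc
    exact hbreak y₁ (hYdef ▸ (Submodule.eq_of_le_of_finrank_eq hle (by rw [hYr, finrank_line hy₁0])).symm)
  · have hmem : ∀ w, w - (kb q τ y₁ w / kb q τ y₁ y₁) • y₁ ∈ S.kperp ![y₁] := fun w => S.mem_kperp.2 fun i => by
      fin_cases i
      show kb q τ y₁ _ = 0
      rw [S.kb_sub_right, S.kb_smul_right, div_mul_cancel₀ _ hs, sub_self]
    obtain ⟨p, hp, hpp, hzp⟩ := S.exists_detect (S.kperp ![y₁])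
      (by have := S.le_finrank_kperp ![y₁]; have := S.four_le; omega)
      (fun x hx hxx => S.kb_nondeg fun w => by
        have hx1 : kb q τ x y₁ = 0 := by rw [S.kb_comm]; exact S.mem_kperp.1 hx 0
        have := hxx _ (hmem w)
        rwa [S.kb_sub_right, S.kb_smul_right, hx1, mul_zero, sub_zero] at this) (hmem y)
      (fun h => hyl (Submodule.mem_span_singleton.2 ⟨_, (sub_eq_zero.1 h).symm⟩))
    have h1p : kb q τ y₁ p = 0 := S.mem_kperp.1 hp 0
    rw [S.kb_sub_left, S.kb_smul_left, h1p, mul_zero, sub_zero] at hzp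
    have hp0 : p ≠ 0 := fun h => hzp (by rw [h, S.kb_zero_right])
    obtain ⟨v₀, hv₀, hv₀n⟩ : ∃ v₀ ∈ S.kperp ![y₁, p], v₀ ∉ Submodule.span L {p} := by
      by_contra hc
      push Not at hc
      have h1 := Submodule.finrank_mono (show S.kperp ![y₁, p] ≤ Submodule.span L {p} from hc)
      have h2 := S.le_finrank_kperp ![y₁, p]
      have h3 := S.four_le
      rw [finrank_span_singleton hp0] at h1
      omega
    obtain ⟨h, hh, hne, hfix⟩ := S.exists_moving hM hYr hpp (S.mem_kperp.1 hv₀ 1)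
      (fun k hk => hv₀n (hk ▸ Submodule.smul_mem _ _ (Submodule.mem_span_singleton_self p))) hy hzp
    exact done h hh hne (hfix y₁ (by rw [S.kb_comm]; exact h1p)
      (by rw [S.kb_comm]; exact S.mem_kperp.1 hv₀ 0)) fun h => absurd h hr2

/-- A moved line meeting a line in a hyperplane. -/
theorem Setup.good_hyperplane [hW : Wide F ι L] {M : Subgroup (O q)} (hM : HasLin L M) {g : O q} (hg : g ∈ M) {u : ι → F}
    (hu0 : u ≠ 0) (hu : kb q τ u u = 0) (hbreak : ∀ a : ι → F, img g (line L u) ≠ line L a) :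
    Good q τ M (finrank F L - 1) := by
  have hr := S.prime.two_le
  suffices h : ∀ e, e + 2 ≤ finrank F L → Good q τ M (e + 1) by
    have h2 := h (finrank F L - 2) (by omega)
    rwa [show finrank F L - 2 + 1 = finrank F L - 1 by omega] at h2
  intro e
  induction e with
  | zero => exact fun _ => S.good_one hM hg hu0 hu hbreak
  | succ e ih => exact fun he => S.good_succ hM (by omega) (by omega) (ih (by omega))

end CfsgLib.ExtFieldOrth
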