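import Cfsg.Agent.Lib.ExtFieldOrth.Geometry

/-!
The linear isometries over the extension field used below: transvection analogues, tori, commutators of
reflections, and transitivity on isotropic points.
-/

set_option autoImplicit false
set_option linter.unusedSectionVars false

namespace CfsgLib.ExtFieldOrth

open Matrix QuadraticMap Module CfsgLib.Orth
open scoped commutatorElement

variable {F : Type*} [Field F] [Fintype F] {ι : Type} [Fintype ι] [DecidableEq ι]
  {L : Type*} [Field L] [Fintype L] [Algebra F L] [Module L (ι → F)] [IsScalarTower F L (ι → F)]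
  {q : QuadraticForm F (ι → F)} {τ : L →ₗ[F] F}

variable (L) in
/-- The isometry commutes with `L`. -/
def IsKLin (g : O q) : Prop := ∀ (c : L) (x : ι → F), app g (c • x) = c • app g x

variable (L) in
/-- The subgroup contains the `L`-linear elements of `Ω`. -/
def HasLin (M : Subgroup (O q)) : Prop := ∀ g ∈ commutator (O q), IsKLin L g → g ∈ M

theorem IsKLin.mul {g h : O q} (hg : IsKLin L g) (hh : IsKLin L h) : IsKLin L (g * h) := fun c x => by
  rw [app_mul, app_mul, hh, hg]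

theorem IsKLin.inv {g : O q} (hg : IsKLin L g) : IsKLin L g⁻¹ := fun c x => by
  apply app_injective g
  rw [app_app_inv, hg, app_app_inv]

variable (S : Setup q τ)
include S

/-- An isometry from a linear map over `L`. -/
noncomputable def Setup.kIso (f g : (ι → F) →ₗ[L] (ι → F)) (hfg : ∀ x, f (g x) = x) (hgf : ∀ x, g (f x) = x)
    (hpres : ∀ x, kb q τ (f x) (f x) = kb q τ x x) : O q :=
  mkO (f.restrictScalars F) (g.restrictScalars F) (LinearMap.ext hfg) (LinearMap.ext hgf) fun x => by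
    have h1 := S.two_q (f x)
    rw [hpres, ← S.two_q x] at h1
    exact mul_left_cancel₀ S.two h1

theorem Setup.app_kIso {f g : (ι → F) →ₗ[L] (ι → F)} {hfg : ∀ x, f (g x) = x} {hgf : ∀ x, g (f x) = x}
    {hpres : ∀ x, kb q τ (f x) (f x) = kb q τ x x} (x : ι → F) : app (S.kIso f g hfg hgf hpres) x = f x := by
  rw [Setup.kIso, app_mkO]
  rfl

theorem Setup.kIso_lin {f g : (ι → F) →ₗ[L] (ι → F)} {hfg : ∀ x, f (g x) = x} {hgf : ∀ x, g (f x) = x}
    {hpres : ∀ x, kb q τ (f x) (f x) = kb q τ x x} : IsKLin L (S.kIso f g hfg hgf hpres) := fun c x => by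
  rw [S.app_kIso, S.app_kIso, map_smul]

theorem Setup.sq_mem (g : O q) : g * g ∈ commutator (O q) := by
  have := CfsgLib.OrthFix.sq_mem_commutator S.nondeg (Or.inl (by have := S.nine; omega)) g
  rwa [pow_two] at this

theorem Setup.sq_mem_of_hasLin {M : Subgroup (O q)} (hM : HasLin L M) {g : O q} (hg : IsKLin L g) :
    g * g ∈ M :=
  hM _ (S.sq_mem g) (hg.mul hg)

/-! ### Transvection analogues -/

/-- `x ↦ x + b(x,u) v - (b(x,v) + b(v,v) b(x,u) / 2) u`. -/
noncomputable def Setup.kTL (u v : ι → F) : (ι → F) →ₗ[L] (ι → F) :=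
  LinearMap.id + (S.kB u).smulRight v - (S.kB v + (kb q τ v v / 2) • S.kB u).smulRight u

theorem Setup.kTL_apply (u v x : ι → F) :
    S.kTL u v x = x + kb q τ x u • v - (kb q τ x v + kb q τ v v / 2 * kb q τ x u) • u := by
  simp only [Setup.kTL, LinearMap.sub_apply, LinearMap.add_apply, LinearMap.id_apply, LinearMap.smulRight_apply,
    LinearMap.smul_apply, S.kB_apply, smul_eq_mul, S.kb_comm u x, S.kb_comm v x]

theorem Setup.kTL_neg {u v : ι → F} (hu : kb q τ u u = 0) (huv : kb q τ u v = 0) (x : ι → F) :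
    S.kTL u v (S.kTL u (-v) x) = x := by
  simp only [Setup.kTL_apply, S.kb_neg_right, S.kb_neg_left, S.kb_sub_left, S.kb_add_left, S.kb_smul_left,
    neg_neg, hu, huv, S.kb_comm v u]
  have := S.two'
  match_scalars <;> field_simp <;> ring

theorem Setup.kb_kTL {u v : ι → F} (hu : kb q τ u u = 0) (huv : kb q τ u v = 0) (x : ι → F) :
    kb q τ (S.kTL u v x) (S.kTL u v x) = kb q τ x x := by
  simp only [Setup.kTL_apply, S.kb_sub_left, S.kb_sub_right, S.kb_add_left, S.kb_add_right, S.kb_smul_left,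
    S.kb_smul_right, hu, huv, S.kb_comm v u, S.kb_comm u x, S.kb_comm v x]
  have := S.two'
  field_simp
  ring

/-- The unipotent isometry attached to an isotropic vector and an orthogonal one. -/
noncomputable def Setup.kT {u v : ι → F} (hu : kb q τ u u = 0) (huv : kb q τ u v = 0) : O q :=
  S.kIso (S.kTL u v) (S.kTL u (-v)) (S.kTL_neg hu huv)
    (fun x => by
      have h := S.kTL_neg hu (v := -v) (by rw [S.kb_neg_right, huv, neg_zero]) x
      rwa [neg_neg] at h)
    (S.kb_kTL hu huv)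

theorem Setup.app_kT {u v : ι → F} (hu : kb q τ u u = 0) (huv : kb q τ u v = 0) (x : ι → F) :
    app (S.kT hu huv) x = x + kb q τ x u • v - (kb q τ x v + kb q τ v v / 2 * kb q τ x u) • u := by
  rw [Setup.kT, S.app_kIso, S.kTL_apply]

theorem Setup.kT_mem {M : Subgroup (O q)} (hM : HasLin L M) {u v : ι → F} (hu : kb q τ u u = 0)
    (huv : kb q τ u v = 0) : S.kT hu huv ∈ M := by
  have hw : kb q τ u ((2 : L)⁻¹ • v) = 0 := by rw [S.kb_smul_right, huv, mul_zero]
  have e : S.kT hu huv = S.kT hu hw * S.kT hu hw := ext_app fun x => by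
    simp only [app_mul, S.app_kT, S.kb_smul_left, S.kb_smul_right, S.kb_sub_left, S.kb_add_left, hu, huv,
      S.kb_comm v u]
    have := S.two'
    match_scalars <;> field_simp <;> ring
  rw [e]
  exact S.sq_mem_of_hasLin hM S.kIso_lin

theorem Setup.kT_fix {u v x : ι → F} (hu : kb q τ u u = 0) (huv : kb q τ u v = 0) (hxu : kb q τ u x = 0)
    (hxv : kb q τ v x = 0) : app (S.kT hu huv) x = x := by
  rw [S.app_kT, S.kb_comm x u, hxu, S.kb_comm x v, hxv, mul_zero, add_zero, zero_smul, zero_smul, add_zero,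
    sub_zero]

/-! ### Commutators of reflections -/

/-- The reflection over `L`. -/
noncomputable def Setup.kRL (a : ι → F) : (ι → F) →ₗ[L] (ι → F) :=
  LinearMap.id - ((2 / kb q τ a a) • S.kB a).smulRight a

theorem Setup.kRL_apply (a x : ι → F) : S.kRL a x = x - (2 / kb q τ a a * kb q τ x a) • a := by
  simp only [Setup.kRL, LinearMap.sub_apply, LinearMap.id_apply, LinearMap.smulRight_apply, LinearMap.smul_apply,
    S.kB_apply, smul_eq_mul, S.kb_comm a x]

theorem Setup.kRL_kRL {a : ι → F} (ha : kb q τ a a ≠ 0) (x : ι → F) : S.kRL a (S.kRL a x) = x := by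
  simp only [Setup.kRL_apply, S.kb_sub_left, S.kb_smul_left]
  match_scalars <;> field_simp <;> ring

theorem Setup.kb_kRL {a : ι → F} (ha : kb q τ a a ≠ 0) (x : ι → F) :
    kb q τ (S.kRL a x) (S.kRL a x) = kb q τ x x := by
  simp only [Setup.kRL_apply, S.kb_sub_left, S.kb_sub_right, S.kb_smul_left, S.kb_smul_right, S.kb_comm a x]
  field_simp
  ring

/-- The reflection over `L`, as an isometry. -/
noncomputable def Setup.kR {a : ι → F} (ha : kb q τ a a ≠ 0) : O q :=
  S.kIso (S.kRL a) (S.kRL a) (S.kRL_kRL ha) (S.kRL_kRL ha) (S.kb_kRL ha)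

theorem Setup.app_kR {a : ι → F} (ha : kb q τ a a ≠ 0) (x : ι → F) :
    app (S.kR ha) x = x - (2 / kb q τ a a * kb q τ x a) • a := by
  rw [Setup.kR, S.app_kIso, S.kRL_apply]

theorem Setup.kR_fix {a x : ι → F} (ha : kb q τ a a ≠ 0) (h : kb q τ x a = 0) : app (S.kR ha) x = x := by
  rw [S.app_kR, h, mul_zero, zero_smul, sub_zero]

theorem Setup.kR_inv {a : ι → F} (ha : kb q τ a a ≠ 0) : (S.kR ha)⁻¹ = S.kR ha := by
  refine inv_eq_of_mul_eq_one_right (ext_app fun x => ?_)
  rw [app_mul, app_one, Setup.kR, S.app_kIso, S.app_kIso, S.kRL_kRL ha]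

/-- The commutator of two reflections. -/
noncomputable def Setup.rot {a b : ι → F} (ha : kb q τ a a ≠ 0) (hb : kb q τ b b ≠ 0) : O q :=
  ⁅S.kR ha, S.kR hb⁆

theorem Setup.rot_mem {M : Subgroup (O q)} (hM : HasLin L M) {a b : ι → F} (ha : kb q τ a a ≠ 0)
    (hb : kb q τ b b ≠ 0) : S.rot ha hb ∈ M := by
  refine hM _ (Subgroup.commutator_mem_commutator (Subgroup.mem_top _) (Subgroup.mem_top _)) ?_
  rw [Setup.rot, commutatorElement_def]
  exact ((S.kIso_lin.mul S.kIso_lin).mul S.kIso_lin.inv).mul S.kIso_lin.inv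

theorem Setup.rot_fix {a b x : ι → F} (ha : kb q τ a a ≠ 0) (hb : kb q τ b b ≠ 0) (hxa : kb q τ x a = 0)
    (hxb : kb q τ x b = 0) : app (S.rot ha hb) x = x := by
  rw [Setup.rot, commutatorElement_def, S.kR_inv, S.kR_inv, app_mul, app_mul, app_mul, S.kR_fix hb hxb,
    S.kR_fix ha hxa, S.kR_fix hb hxb, S.kR_fix ha hxa]

theorem Setup.rot_ne {a e : ι → F} (ha : kb q τ a a ≠ 0) (hb : kb q τ (a + e) (a + e) ≠ 0)
    (hae : kb q τ a e = 0) (he : kb q τ e e ≠ 0) : app (S.rot ha hb) a ≠ a := by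
  intro h
  have h1 := congrArg (app (S.kR hb * S.kR ha)) h
  rw [← app_mul, Setup.rot, commutatorElement_def, S.kR_inv, S.kR_inv] at h1
  have e1 : S.kR hb * S.kR ha * (S.kR ha * S.kR hb * S.kR ha * S.kR hb) = S.kR ha * S.kR hb := by
    have ea := S.kR_inv ha
    have eb := S.kR_inv hb
    calc _ = S.kR hb * ((S.kR ha)⁻¹ * S.kR ha) * S.kR hb * S.kR ha * S.kR hb := by rw [ea]; group
      _ = (S.kR hb)⁻¹ * S.kR hb * S.kR ha * S.kR hb := by rw [eb]; group
      _ = _ := by group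
  rw [e1] at h1
  have h2 := congrArg (fun z => kb q τ z e) h1
  have he' : kb q τ a a + kb q τ e e ≠ 0 := by
    intro h0
    apply hb
    rw [S.kb_add_left, S.kb_add_right, S.kb_add_right, S.kb_comm e a, hae]
    linear_combination h0
  simp only [app_mul, S.app_kR, S.kb_sub_left, S.kb_smul_left, S.kb_add_left, S.kb_add_right, S.kb_comm e a, hae,
    mul_zero, add_zero, zero_add] at h2
  have := S.two'
  field_simp at h2
  apply he
  have h3 : (4 : L) * kb q τ e e * kb q τ a a = 0 := by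
    ring_nf
    ring_nf at h2
    linear_combination -h2
  have h4 : (4 : L) ≠ 0 := by
    rw [show (4 : L) = 2 * 2 by norm_num]
    exact mul_ne_zero this this
  exact (mul_eq_zero.1 ((mul_eq_zero.1 h3).resolve_right ha)).resolve_left h4

/-! ### Tori -/

/-- The torus element of a hyperbolic pair. -/
noncomputable def Setup.kDL (k : L) (u u' : ι → F) : (ι → F) →ₗ[L] (ι → F) :=
  LinearMap.id + ((k - 1) • S.kB u').smulRight u + ((k⁻¹ - 1) • S.kB u).smulRight u'

theorem Setup.kDL_apply (k : L) (u u' x : ι → F) :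
    S.kDL k u u' x = x + ((k - 1) * kb q τ x u') • u + ((k⁻¹ - 1) * kb q τ x u) • u' := by
  simp only [Setup.kDL, LinearMap.add_apply, LinearMap.id_apply, LinearMap.smulRight_apply, LinearMap.smul_apply,
    S.kB_apply, smul_eq_mul, S.kb_comm u x, S.kb_comm u' x]

theorem Setup.kDL_inv {k : L} (hk : k ≠ 0) {u u' : ι → F} (hu : kb q τ u u = 0) (hu' : kb q τ u' u' = 0)
    (huu' : kb q τ u u' = 1) (x : ι → F) : S.kDL k u u' (S.kDL k⁻¹ u u' x) = x := by
  simp only [Setup.kDL_apply, S.kb_add_left, S.kb_smul_left, hu, hu', huu', S.kb_comm u' u, inv_inv]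
  match_scalars <;> field_simp <;> ring

theorem Setup.kb_kDL {k : L} (hk : k ≠ 0) {u u' : ι → F} (hu : kb q τ u u = 0) (hu' : kb q τ u' u' = 0)
    (huu' : kb q τ u u' = 1) (x : ι → F) : kb q τ (S.kDL k u u' x) (S.kDL k u u' x) = kb q τ x x := by
  simp only [Setup.kDL_apply, S.kb_add_left, S.kb_add_right, S.kb_smul_left, S.kb_smul_right, hu, hu', huu',
    S.kb_comm u' u, S.kb_comm u x, S.kb_comm u' x]
  field_simp
  ring

/-- The torus element, as an isometry. -/
noncomputable def Setup.kD {k : L} (hk : k ≠ 0) {u u' : ι → F} (hu : kb q τ u u = 0) (hu' : kb q τ u' u' = 0)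
    (huu' : kb q τ u u' = 1) : O q :=
  S.kIso (S.kDL k u u') (S.kDL k⁻¹ u u') (S.kDL_inv hk hu hu' huu')
    (fun x => by
      have h := S.kDL_inv (inv_ne_zero hk) hu hu' huu' x
      rwa [inv_inv] at h)
    (S.kb_kDL hk hu hu' huu')

theorem Setup.exists_scale_elem {M : Subgroup (O q)} (hM : HasLin L M) {k : L} (hk : k ≠ 0) {u u' : ι → F}
    (hu : kb q τ u u = 0) (hu' : kb q τ u' u' = 0) (huu' : kb q τ u u' = 1) :
    ∃ g ∈ M, IsKLin L g ∧ app g u = (k * k) • u ∧ ∀ x ∈ S.kperp ![u, u'], app g x = x := by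
  refine ⟨S.kD hk hu hu' huu' * S.kD hk hu hu' huu', S.sq_mem_of_hasLin hM S.kIso_lin,
    (S.kIso_lin).mul S.kIso_lin, ?_, fun x hx => ?_⟩
  · simp only [Setup.kD, app_mul, S.app_kIso, S.kDL_apply, S.kb_add_left, S.kb_smul_left, hu, huu', S.kb_comm u' u]
    module
  · have h0 : kb q τ x u = 0 := by rw [S.kb_comm]; exact S.mem_kperp.1 hx 0
    have h1 : kb q τ x u' = 0 := by rw [S.kb_comm]; exact S.mem_kperp.1 hx 1
    simp only [Setup.kD, app_mul, S.app_kIso, S.kDL_apply, h0, h1, mul_zero, zero_smul, add_zero]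

/-! ### Transitivity -/

theorem Setup.move_nonorth {M : Subgroup (O q)} (hM : HasLin L M) {u t : ι → F} (hu : kb q τ u u = 0)
    (ht : kb q τ t t = 0) (hut : kb q τ u t ≠ 0) :
    ∃ g ∈ M, IsKLin L g ∧ ∃ c : L, c ≠ 0 ∧ app g u = c • t := by
  obtain ⟨t', ht'def⟩ : ∃ t', t' = (kb q τ u t)⁻¹ • t := ⟨_, rfl⟩
  have ht' : kb q τ t' t' = 0 := by rw [ht'def, S.kb_smul_left, S.kb_smul_right, ht, mul_zero, mul_zero]
  have hut' : kb q τ u t' = 1 := by rw [ht'def, S.kb_smul_right, inv_mul_cancel₀ hut]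
  obtain ⟨a, ha, haa⟩ := S.exists_anisotropic_perp hu ht' hut'
  have hau : kb q τ u a = 0 := S.mem_kperp.1 ha 0
  have hat : kb q τ t' a = 0 := S.mem_kperp.1 ha 1
  obtain ⟨γ, hγdef⟩ : ∃ γ, γ = -(kb q τ a a / 2) := ⟨_, rfl⟩
  have hγ : γ ≠ 0 := by rw [hγdef, neg_ne_zero]; exact div_ne_zero haa S.two'
  obtain ⟨i, hidef⟩ : ∃ i, i = u + a + γ • t' := ⟨_, rfl⟩
  have h2 := S.two'
  have hi : kb q τ i i = 0 := by
    simp only [hidef, hγdef, S.kb_add_left, S.kb_add_right, S.kb_smul_left, S.kb_smul_right, hu, ht', hut',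
      S.kb_comm t' u, hau, hat, S.kb_comm a u, S.kb_comm a t']
    field_simp
    ring
  have hiu : kb q τ u i = γ := by
    simp only [hidef, S.kb_add_right, S.kb_smul_right, hu, hau, hut']; ring
  have hit : kb q τ t' i = 1 := by
    simp only [hidef, S.kb_add_right, S.kb_smul_right, ht', hat, S.kb_comm t' u, hut']; ring
  have hiv : kb q τ i (t' - γ⁻¹ • u) = 0 := by
    rw [S.kb_sub_right, S.kb_smul_right, S.kb_comm i t', hit, S.kb_comm i u, hiu, inv_mul_cancel₀ hγ, sub_self]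
  refine ⟨S.kT hi hiv, S.kT_mem hM hi hiv, S.kIso_lin, γ * (kb q τ u t)⁻¹, mul_ne_zero hγ (inv_ne_zero hut), ?_⟩
  rw [mul_smul, ← ht'def, S.app_kT]
  simp only [S.kb_sub_left, S.kb_sub_right, S.kb_smul_left, S.kb_smul_right, hu, ht', hut', S.kb_comm t' u, hiu]
  match_scalars <;> field_simp <;> ring

theorem Setup.exists_move {M : Subgroup (O q)} (hM : HasLin L M) {u t : ι → F} (hu0 : u ≠ 0)
    (hu : kb q τ u u = 0) (ht0 : t ≠ 0) (ht : kb q τ t t = 0) :
    ∃ g ∈ M, IsKLin L g ∧ ∃ c : L, c ≠ 0 ∧ app g u = c • t := by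
  have two_steps : ∀ a p b : ι → F, kb q τ p p = 0 → kb q τ a a = 0 → kb q τ b b = 0 → kb q τ a p ≠ 0 →
      kb q τ p b ≠ 0 → ∃ g ∈ M, IsKLin L g ∧ ∃ c : L, c ≠ 0 ∧ app g a = c • b := by
    intro a p b hp ha hb hap hpb
    obtain ⟨g, hg, hgl, c, hc, hgu⟩ := S.move_nonorth hM ha hp hap
    obtain ⟨g', hg', hgl', c', hc', hgp⟩ := S.move_nonorth hM hp hb hpb
    exact ⟨g' * g, M.mul_mem hg' hg, hgl'.mul hgl, c * c', mul_ne_zero hc hc',
      by rw [app_mul, hgu, hgl', hgp, smul_smul]⟩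
  obtain ⟨z, hz⟩ := S.exists_pairing hu0
  obtain ⟨_, _, hp, hup⟩ := S.exists_partner hu hz
  revert hp hup
  generalize (_ : L) • z + (_ : L) • u = p
  intro hp hup
  have hup' : kb q τ u p ≠ 0 := by rw [hup]; exact one_ne_zero
  by_cases htp : kb q τ t p = 0
  swap
  · exact two_steps u p t hp hu ht hup' (by rwa [S.kb_comm])
  obtain ⟨z', hz'⟩ := S.exists_pairing ht0
  obtain ⟨_, _, hp', htp'⟩ := S.exists_partner ht hz'
  revert hp' htp'
  generalize (_ : L) • z' + (_ : L) • t = p'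
  intro hp' htp'
  have hp't : kb q τ p' t ≠ 0 := by rw [S.kb_comm, htp']; exact one_ne_zero
  by_cases hpp : kb q τ p p' = 0
  swap
  · obtain ⟨g, hg, hgl, c, hc, hgu⟩ := S.move_nonorth hM hu hp hup'
    obtain ⟨g', hg', hgl', c', hc', hgp⟩ := two_steps p p' t hp' hp ht hpp hp't
    exact ⟨g' * g, M.mul_mem hg' hg, hgl'.mul hgl, c * c', mul_ne_zero hc hc',
      by rw [app_mul, hgu, hgl', hgp, smul_smul]⟩
  by_cases hup2 : kb q τ u p' = 0
  swap
  · exact two_steps u p' t hp' hu ht hup2 hp't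
  refine two_steps u (p + p') t ?_ hu ht ?_ ?_
  · rw [S.kb_add_left, S.kb_add_right, S.kb_add_right, hp, hp', hpp, S.kb_comm p' p, hpp]; ring
  · rw [S.kb_add_right, hup2, add_zero]; exact hup'
  · rw [S.kb_add_left, S.kb_comm p t, htp, zero_add]; exact hp't

end CfsgLib.ExtFieldOrth
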