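import Cfsg.Agent.Lib.ExtFieldOrth.Soft
import Cfsg.Agent.Lib.GeomClasses.OrthCplxMax

/-!
A soft root element gives all root groups.
-/

set_option autoImplicit false
set_option linter.unusedSectionVars false

namespace CfsgLib.ExtFieldOrth

open Matrix QuadraticMap Module CfsgLib.Orth
open CfsgLib.GeomClasses.OrthCplx (Root)

variable {F : Type*} [Field F] [Fintype F] {ι : Type} [Fintype ι] [DecidableEq ι]
  {L : Type*} [Field L] [Fintype L] [Algebra F L] [Module L (ι → F)] [IsScalarTower F L (ι → F)]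
  {q : QuadraticForm F (ι → F)} {τ : L →ₗ[F] F}

variable (L) in
/-- All root groups inside the line lie in `M`. -/
def LineRoots (M : Subgroup (O q)) (y : ι → F) : Prop :=
  ∀ c d : L, eich q (c • y) (d • y) ∈ M

theorem eich_inv {u a : ι → F} (hu : q u = 0) (ha : polar q u a = 0) : (eich q u a)⁻¹ = eich q u (-a) := by
  refine inv_eq_of_mul_eq_one_right ?_
  rw [eich_add hu ha (by rw [polar_neg_right, ha, neg_zero]), add_neg_cancel]
  exact ext_app fun x => by rw [app_eich hu (polar_zero_right ..), app_one, QuadraticMap.map_zero]; simp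

theorem eich_zero_mem (M : Subgroup (O q)) {u : ι → F} (hu : q u = 0) : eich q u 0 ∈ M := by
  have : eich q u (0 : ι → F) = 1 :=
    ext_app fun x => by rw [app_eich hu (polar_zero_right ..), app_one, QuadraticMap.map_zero]; simp
  rw [this]; exact M.one_mem

variable (S : Setup q τ)
include S

theorem Setup.eich_add_left {y : ι → F} (hy : kb q τ y y = 0) {x : ι → F} (hx : kb q τ y x = 0) (c c' : L) :
    eich q ((c + c') • y) x = eich q (c • y) x * eich q (c' • y) x * eich q (c • y) ((-q x) • (c' • y)) := by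
  have hq1 : ∀ c : L, q (c • y) = 0 := fun c => (S.line_singular hy (smul_mem_line c y)).1
  have hp : ∀ c : L, polar q (c • y) x = 0 := fun c => by
    rw [S.polar_eq, S.kb_smul_left, hx, mul_zero, map_zero]
  have hcc : ∀ c d : L, polar q (c • y) (d • y) = 0 := fun c d => by
    rw [S.polar_smul_smul, hy, mul_zero, map_zero]
  have hct : polar q (c • y) ((-q x) • (c' • y)) = 0 := by rw [polar_smul_right, hcc, smul_zero]
  have hqs : q ((-q x) • (c' • y)) = 0 := by rw [QuadraticMap.map_smul, hq1, smul_zero]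
  refine ext_app fun v => ?_
  rw [app_mul, app_mul, app_eich (hq1 _) hct, hqs, app_eich (hq1 _) (hp c'), app_eich (hq1 _) (hp c),
    app_eich (hq1 _) (hp _), add_smul c c' y]
  simp only [polar_add_right, polar_add_left, polar_smul_left, polar_smul_right, polar_neg_left, hcc, hp,
    polar_comm (f := ⇑q) x (c • y), polar_comm (f := ⇑q) x (c' • y), polar_self', smul_eq_mul]
  match_scalars <;> simp [map_ofNat] <;> ring

omit S in
/-- An isometry fixing a line pointwise commutes with one fixing its orthogonal space pointwise. -/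
theorem Setup.commute_centre (S : Setup q τ) {y : ι → F} {z h : O q}
    (hz : ∀ x, kb q τ y x = 0 → app z x = x) (hh : ∀ x ∈ line L y, app h x = x) : h * z = z * h := by
  have hD : ∀ v, app z v - v ∈ line L y := fun v => by
    by_contra hn
    obtain ⟨x, hx, hne⟩ := S.exists_orth_not_mem (Submodule.span L {y}) (y := app z v - v) hn
    have hxy : kb q τ y x = 0 := hx y (Submodule.mem_span_singleton_self y)
    refine hne ?_
    rw [S.kb_comm]
    refine S.kb_eq_zero fun d => ?_
    rw [polar_comm, polar_sub_left]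
    conv_lhs => arg 1; rw [← hz (d • x) (by rw [S.kb_smul_right, hxy, mul_zero]), polar_app]
    rw [sub_self]
  refine ext_app fun v => ?_
  rw [app_mul, app_mul]
  have h1 : app h (app z v - v) = app z v - v := hh _ (hD v)
  rw [map_sub] at h1
  have h2 : app z (app h v - v) = app h v - v := hz _ (S.perp_line.1 fun e he => by
    rw [polar_sub_right]
    conv_lhs => arg 1; rw [← hh e he, polar_app]
    rw [sub_self])
  rw [map_sub] at h2
  linear_combination (norm := abel) h1 - h2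

/-- Conjugating a soft root element by an element fixing the line. -/
theorem Setup.soft_comm {M : Subgroup (O q)} {y w a : ι → F} (hy : kb q τ y y = 0) (hw : w ∈ line L y)
    (hqa : q a = 0) (hya : kb q τ y a = 0) {g : O q} (hg : g ∈ M) (hgl : ∀ x ∈ line L y, app g x = x)
    (hgx : ∀ x, kb q τ y x = 0 → app g x = x - polar q x a • w) {h : O q} (hh : h ∈ M)
    (hhl : ∀ x ∈ line L y, app h x = x) : eich q w (app h a - a) ∈ M := by
  have hqw : q w = 0 := (S.line_singular hy hw).1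
  have hwa : polar q w a = 0 := S.perp_line.2 hya w hw
  obtain ⟨z, hz⟩ : ∃ z, z = (eich q w a)⁻¹ * g := ⟨_, rfl⟩
  have hzx : ∀ x, kb q τ y x = 0 → app z x = x := fun x hx => by
    have hxw : polar q x w = 0 := by rw [polar_comm]; exact S.perp_line.2 hx w hw
    have h1 : app (eich q w a) x = app g x := by
      rw [app_eich hqw hwa, hgx x hx, hxw]
      module
    rw [hz, app_mul, ← h1, app_inv_app]
  have hcomm := S.commute_centre hzx (h := h) hhl
  have e : h * g * h⁻¹ * g⁻¹ = eich q w (app h a - a) := by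
    have hge : g = eich q w a * z := by rw [hz, mul_inv_cancel_left]
    calc h * g * h⁻¹ * g⁻¹ = h * eich q w a * (z * h⁻¹ * z⁻¹) * (eich q w a)⁻¹ := by rw [hge]; group
      _ = h * eich q w a * h⁻¹ * (eich q w a)⁻¹ := by
        rw [show z * h⁻¹ * z⁻¹ = h⁻¹ by
          calc z * h⁻¹ * z⁻¹ = h⁻¹ * (h * z) * h⁻¹ * z⁻¹ := by group
            _ = h⁻¹ * (z * h) * h⁻¹ * z⁻¹ := by rw [hcomm]
            _ = h⁻¹ := by group]
      _ = eich q (app h w) (app h a) * eich q w (-a) := by rw [eich_conj hqw hwa, eich_inv hqw hwa]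
      _ = _ := by
        have hwha : polar q w (app h a) = 0 := by rw [← hhl w hw, polar_app, hwa]
        rw [hhl w hw, eich_add hqw hwha (by rw [polar_neg_right, hwa, neg_zero]), ← sub_eq_add_neg]
  rw [← e]
  exact M.mul_mem (M.mul_mem (M.mul_mem hh hg) (M.inv_mem hh)) (M.inv_mem hg)

/-- Roots with one fixed vector in a line give all root groups inside it. -/
theorem Setup.lineRoots_of_base {M : Subgroup (O q)} (hM : HasLin L M) {y : ι → F} (hy0 : y ≠ 0)
    (hy : kb q τ y y = 0) {c₀ : L} (hc₀ : c₀ ≠ 0) (hbase : ∀ d : L, eich q (c₀ • y) (d • y) ∈ M) :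
    LineRoots L M y := by
  have hq1 : ∀ c : L, q (c • y) = 0 := fun c => (S.line_singular hy (smul_mem_line c y)).1
  have hcc : ∀ c d : L, polar q (c • y) (d • y) = 0 := fun c d => by
    rw [S.polar_smul_smul, hy, mul_zero, map_zero]
  obtain ⟨z, hz⟩ := S.exists_pairing hy0
  obtain ⟨α, β, hy', hyy'⟩ := S.exists_partner hy hz
  let A : AddSubgroup L :=
    { carrier := {c | ∀ d : L, eich q (c • y) (d • y) ∈ M}
      zero_mem' := fun d => by
        rw [zero_smul, GeomClasses.OrthPair.eich_swap (QuadraticMap.map_zero q) (hq1 d) (polar_zero_left ..),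
          neg_zero]
        exact eich_zero_mem M (hq1 d)
      add_mem' := fun {a b} ha hb d => by
        rw [GeomClasses.OrthPair.eich_swap (hq1 _) (hq1 d) (hcc _ d), add_smul, neg_add,
          ← eich_add (hq1 d) (by rw [polar_neg_right, hcc, neg_zero]) (by rw [polar_neg_right, hcc, neg_zero]),
          ← GeomClasses.OrthPair.eich_swap (hq1 a) (hq1 d) (hcc a d),
          ← GeomClasses.OrthPair.eich_swap (hq1 b) (hq1 d) (hcc b d)]
        exact M.mul_mem (ha d) (hb d)
      neg_mem' := fun {a} ha d => by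
        rw [GeomClasses.OrthPair.eich_swap (hq1 _) (hq1 d) (hcc _ d), neg_smul, neg_neg,
          ← neg_neg (a • y), ← eich_inv (hq1 d) (by rw [polar_neg_right, hcc, neg_zero]),
          ← GeomClasses.OrthPair.eich_swap (hq1 a) (hq1 d) (hcc a d)]
        exact M.inv_mem (ha d) }
  have hsq : ∀ k : L, k * k * c₀ ∈ A := fun k => by
    by_cases hk : k = 0
    · rw [hk, zero_mul, zero_mul]; exact A.zero_mem
    intro d
    obtain ⟨h, hh, hhlin, hhy, -⟩ := S.exists_scale_elem hM hk hy hy' hyy'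
    have h1 := M.mul_mem (M.mul_mem hh (hbase (d / (k * k)))) (M.inv_mem hh)
    rwa [eich_conj (hq1 _) (hcc _ _), hhlin, hhlin, hhy, smul_smul, smul_smul, div_mul_cancel₀ _ (mul_ne_zero hk hk),
      mul_comm c₀] at h1
  intro c
  have h2 := S.two'
  obtain ⟨e, he⟩ : ∃ e, e = c / (2 * c₀) := ⟨_, rfl⟩
  have := A.sub_mem (A.sub_mem (hsq (e + 1)) (hsq e)) (hsq 1)
  have hce : (e + 1) * (e + 1) * c₀ - e * e * c₀ - 1 * 1 * c₀ = c := by
    rw [he]; field_simp; ring
  rw [hce] at this
  exact this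

theorem Setup.lineRoots_of_soft {M : Subgroup (O q)} (hM : HasLin L M) {y : ι → F} (hy0 : y ≠ 0)
    (hy : kb q τ y y = 0) (hsoft : Soft (L := L) (τ := τ) M y) : LineRoots L M y := by
  obtain ⟨w, hw, hw0, a, hqa, hya, hal, g, hg, hgl, hgx⟩ := hsoft
  obtain ⟨c₀, rfl⟩ := mem_line.1 hw
  have hc₀ : c₀ ≠ 0 := fun h => hw0 (by rw [h, zero_smul])
  have hq1 : ∀ c : L, q (c • y) = 0 := fun c => (S.line_singular hy (smul_mem_line c y)).1
  have hcc : ∀ c d : L, polar q (c • y) (d • y) = 0 := fun c d => by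
    rw [S.polar_smul_smul, hy, mul_zero, map_zero]
  obtain ⟨v, hv, hav⟩ := S.exists_orth_not_mem (Submodule.span L {y}) (y := a) hal
  have hyv : kb q τ y v = 0 := hv y (Submodule.mem_span_singleton_self y)
  have hayk : kb q τ a y = 0 := by rw [S.kb_comm]; exact hya
  have hbase : ∀ d : L, eich q (c₀ • y) (d • y) ∈ M := fun d => by
    have hlam : kb q τ y ((-d / kb q τ a v) • v) = 0 := by rw [S.kb_smul_right, hyv, mul_zero]
    have h := S.soft_comm hy hw hqa hya hg hgl hgx (S.kT_mem hM hy hlam) fun x hx => by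
      obtain ⟨k, rfl⟩ := mem_line.1 hx
      exact S.kT_fix hy hlam (by rw [S.kb_smul_right, hy, mul_zero])
        (by rw [S.kb_smul_left, S.kb_smul_right, S.kb_comm v y, hyv, mul_zero, mul_zero])
    rwa [S.app_kT, hayk, zero_smul, mul_zero, add_zero, add_zero, S.kb_smul_right, div_mul_cancel₀ _ hav,
      sub_sub_cancel_left, neg_smul, neg_neg] at h
  exact S.lineRoots_of_base hM hy0 hy hc₀ hbase

theorem Setup.lineRoots_all {M : Subgroup (O q)} (hM : HasLin L M) {y t : ι → F} (hy0 : y ≠ 0)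
    (hy : kb q τ y y = 0) (h : LineRoots L M y) (ht0 : t ≠ 0) (ht : kb q τ t t = 0) : LineRoots L M t := by
  obtain ⟨g, hg, hgl, c₁, hc₁, hgy⟩ := S.exists_move hM hy0 hy ht0 ht
  intro c d
  have h1 := M.mul_mem (M.mul_mem hg (h (c / c₁) (d / c₁))) (M.inv_mem hg)
  rwa [eich_conj (S.line_singular hy (smul_mem_line _ y)).1 (by rw [S.polar_smul_smul, hy, mul_zero, map_zero]),
    hgl, hgl, hgy, smul_smul, smul_smul, div_mul_cancel₀ _ hc₁, div_mul_cancel₀ _ hc₁] at h1

theorem Setup.root_line {M : Subgroup (O q)} {t : ι → F} (ht : kb q τ t t = 0) (h : LineRoots L M t) (c d : L) :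
    Root M (c • t) (d • t) :=
  ⟨(S.line_singular ht (smul_mem_line c t)).1, (S.line_singular ht (smul_mem_line d t)).1,
    by rw [S.polar_smul_smul, ht, mul_zero, map_zero], fun s => by
      rw [← smul_assoc]; exact h c _⟩

/-- The centres of root groups in `M`, over the isotropic line. -/
theorem Setup.full_of_parts {M : Subgroup (O q)} {u u' : ι → F} (hu : kb q τ u u = 0) (hu' : kb q τ u' u' = 0)
    (huu' : kb q τ u u' = 1) {ω : L} (hline : LineRoots L M u)
    (hN : ∀ x ∈ S.kperp ![u, u'], eich q (ω • u) x ∈ M)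
    (hU : ∀ γ : L, τ (ω * γ) = 0 → eich q (ω • u) (γ • u') ∈ M) :
    GeomClasses.OrthEich.Full M (ω • u) := by
  have hq0 := (S.line_singular hu (smul_mem_line ω u)).1
  refine ⟨hq0, fun a ha => ?_⟩
  obtain ⟨π, hπ⟩ : ∃ π, π = a - kb q τ a u' • u - kb q τ a u • u' := ⟨_, rfl⟩
  have hπN : π ∈ S.kperp ![u, u'] := hπ ▸ S.sub_mem_pair hu hu' huu' a
  have hγ : τ (ω * kb q τ a u) = 0 := by
    rw [S.polar_eq, S.kb_smul_left, S.kb_comm u a] at ha
    exact ha
  have e1 : polar q (ω • u) π = 0 := by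
    rw [S.polar_eq, S.kb_smul_left, show kb q τ u π = 0 from S.mem_kperp.1 hπN 0, mul_zero, map_zero]
  have e2 : polar q (ω • u) (kb q τ a u' • u) = 0 := by rw [S.polar_smul_smul, hu, mul_zero, map_zero]
  have e3 : polar q (ω • u) (kb q τ a u • u') = 0 := by rw [S.polar_smul_smul, huu', mul_one, hγ]
  rw [show a = π + (kb q τ a u' • u + kb q τ a u • u') by rw [hπ]; abel,
    ← eich_add hq0 e1 (by rw [polar_add_right, e2, e3, add_zero]), ← eich_add hq0 e2 e3]
  exact M.mul_mem (hN π hπN) (M.mul_mem (hline ω _) (hU _ hγ))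

theorem Setup.full_of_lineRoots {M : Subgroup (O q)} (hM : HasLin L M) (hr : 3 ≤ finrank F L) {y : ι → F}
    (hy0 : y ≠ 0) (hy : kb q τ y y = 0) (h : LineRoots L M y) {u u' : ι → F} (hu0 : u ≠ 0)
    (hu : kb q τ u u = 0) (hu' : kb q τ u' u' = 0) (huu' : kb q τ u u' = 1) {ω : L} (hω : ω ≠ 0) :
    GeomClasses.OrthEich.Full M (ω • u) := by
  have := S.finite
  have hall := fun t ht0 ht => S.lineRoots_all hM hy0 hy h (t := t) ht0 ht
  have hq0 := (S.line_singular hu (smul_mem_line ω u)).1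
  have key : ∀ κ : L, τ (ω * κ) = 0 → ∀ v ∈ S.kperp ![u, u'],
      polar q (ω • u) (κ • (u' + v + (-(kb q τ v v / 2)) • u)) = 0 ∧
        eich q (ω • u) (κ • (u' + v + (-(kb q τ v v / 2)) • u)) ∈ M := by
    intro κ hκ v hv
    have huv : kb q τ u v = 0 := S.mem_kperp.1 hv 0
    have hu'v : kb q τ u' v = 0 := S.mem_kperp.1 hv 1
    obtain ⟨t, htdef⟩ : ∃ t, t = u' + v + (-(kb q τ v v / 2)) • u := ⟨_, rfl⟩
    have h2 := S.two'
    have hut : kb q τ u t = 1 := by
      rw [htdef, S.kb_add_right, S.kb_add_right, S.kb_smul_right, huu', huv, hu]; ring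
    have ht : kb q τ t t = 0 := by
      simp only [htdef, S.kb_add_left, S.kb_add_right, S.kb_smul_left, S.kb_smul_right, hu, hu', huu', huv, hu'v,
        S.kb_comm u' u, S.kb_comm v u, S.kb_comm v u']
      field_simp
      ring
    have ht0 : t ≠ 0 := fun e => by rw [e, S.kb_zero_right] at hut; exact zero_ne_one hut
    have hB : ∀ k k' : L, polar q (k • u) (k' • t) = τ (k * k') := fun k k' => by
      rw [S.polar_smul_smul, hut, mul_one]
    rw [← htdef]
    refine ⟨by rw [hB, hκ], ?_⟩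
    by_cases hκ0 : κ = 0
    · rw [hκ0, zero_smul]; exact eich_zero_mem M hq0
    obtain ⟨k', hk', hk'n⟩ : ∃ k' : L, τ (ω * k') = 0 ∧ ∀ s : F, k' ≠ s • κ := by
      by_contra hc
      push Not at hc
      have hle : LinearMap.ker (τ ∘ₗ LinearMap.mulLeft F ω) ≤ Submodule.span F {κ} := fun x hx => by
        obtain ⟨s, hs⟩ := hc x hx
        exact Submodule.mem_span_singleton.2 ⟨s, hs.symm⟩
      have h1 := Submodule.finrank_mono hle
      have h3 := LinearMap.finrank_range_add_finrank_ker (τ ∘ₗ LinearMap.mulLeft F ω)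
      have h4 := Submodule.finrank_le (LinearMap.range (τ ∘ₗ LinearMap.mulLeft F ω))
      rw [Module.finrank_self] at h4
      rw [finrank_span_singleton hκ0] at h1
      omega
    obtain ⟨k₁, hk₁, hk₁'⟩ : ∃ k₁ : L, τ (k₁ * κ) = 0 ∧ τ (k₁ * k') ≠ 0 := by
      by_contra hc
      push Not at hc
      refine hk'n (τ (κ⁻¹ * k')) (S.ext_tau fun d => ?_)
      have h1 := hc (d - τ (d * κ) • κ⁻¹) (by
        rw [sub_mul, map_sub, smul_mul_assoc, map_smul, inv_mul_cancel₀ hκ0, S.one, smul_eq_mul, mul_one, sub_self])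
      rw [sub_mul, map_sub, smul_mul_assoc, map_smul, smul_eq_mul, sub_eq_zero] at h1
      rw [h1, mul_smul_comm, map_smul, smul_eq_mul, mul_comm]
    have hR1 : Root M (k₁ • u) (ω • u) := S.root_line hu (hall u hu0 hu) k₁ ω
    have hR2 : Root M (k' • t) (κ • t) := S.root_line ht (hall t ht0 ht) k' κ
    have hR := hR1.comm hR2 (by rwa [hB]) (by rw [hB, hk₁]) (by rw [hB, hk']) (by rw [hB, hκ])
    have := hR.mem 1
    rwa [one_smul] at this
  have hU : ∀ γ : L, τ (ω * γ) = 0 → eich q (ω • u) (γ • u') ∈ M := fun γ hγ => by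
    have h1 := (key γ hγ 0 (Submodule.zero_mem _)).2
    rwa [S.kb_zero_left, zero_div, neg_zero, zero_smul, add_zero, add_zero] at h1
  refine S.full_of_parts hu hu' huu' (hall u hu0 hu) (fun x hx => ?_) hU
  obtain ⟨κ, hκ, hκ0⟩ := Submodule.exists_mem_ne_zero_of_ne_bot
    (p := LinearMap.ker (τ ∘ₗ LinearMap.mulLeft F ω)) (fun h0 => by
      have h3 := LinearMap.finrank_range_add_finrank_ker (τ ∘ₗ LinearMap.mulLeft F ω)
      have h4 := Submodule.finrank_le (LinearMap.range (τ ∘ₗ LinearMap.mulLeft F ω))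
      rw [Module.finrank_self] at h4
      rw [h0, finrank_bot] at h3
      omega)
  rw [LinearMap.mem_ker] at hκ
  obtain ⟨v, hv⟩ : ∃ v, v = (κ⁻¹ / 2) • x := ⟨_, rfl⟩
  have hvN : v ∈ S.kperp ![u, u'] := hv ▸ Submodule.smul_mem _ _ hx
  obtain ⟨hp1, hm1⟩ := key κ hκ v hvN
  obtain ⟨hp2, hm2⟩ := key κ hκ (-v) (Submodule.neg_mem _ hvN)
  have hm3 := M.mul_mem hm1 (M.inv_mem hm2)
  rw [eich_inv hq0 hp2, eich_add hq0 hp1 (by rw [polar_neg_right, hp2, neg_zero])] at hm3
  convert hm3 using 2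
  rw [S.kb_neg_left, S.kb_neg_right, neg_neg, hv]
  have := S.two'
  simp only [smul_add, smul_neg, smul_smul]
  match_scalars <;> field_simp <;> ring

/-- In degree two, a soft root element with a moved line gives every root group at the line. -/
theorem Setup.nroots_of_soft [hW : Wide F ι L] {M : Subgroup (O q)} (hM : HasLin L M) (hr : finrank F L = 2) {y y' : ι → F}
    (hy0 : y ≠ 0) (hy : kb q τ y y = 0) (hy' : kb q τ y' y' = 0) (hyy' : kb q τ y y' = 1)
    (hsoft : Soft (L := L) (τ := τ) M y) {x : ι → F} (hx : x ∈ S.kperp ![y, y']) (c : L) :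
    eich q (c • y) x ∈ M := by
  have := S.finite
  have := S.finiteL
  have h7 := S.five_le hr
  have hlr := S.lineRoots_of_soft hM hy0 hy hsoft
  obtain ⟨w, hw, hw0, a, hqa, hya, hal, g, hg, hgl, hgx⟩ := hsoft
  have hq1 : ∀ c : L, q (c • y) = 0 := fun c => (S.line_singular hy (smul_mem_line c y)).1
  have hpN : ∀ {x : ι → F}, x ∈ S.kperp ![y, y'] → ∀ c : L, polar q (c • y) x = 0 := fun {x} hx c => by
    rw [S.polar_eq, S.kb_smul_left, show kb q τ y x = 0 from S.mem_kperp.1 hx 0, mul_zero, map_zero]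
  let V : AddSubgroup (ι → F) :=
    { carrier := {x | x ∈ S.kperp ![y, y'] ∧ ∀ c : L, eich q (c • y) x ∈ M}
      zero_mem' := ⟨Submodule.zero_mem _, fun c => eich_zero_mem M (hq1 c)⟩
      add_mem' := fun {a b} ha hb => ⟨Submodule.add_mem _ ha.1 hb.1, fun c => by
        rw [← eich_add (hq1 c) (hpN ha.1 c) (hpN hb.1 c)]; exact M.mul_mem (ha.2 c) (hb.2 c)⟩
      neg_mem' := fun {a} ha => ⟨Submodule.neg_mem _ ha.1, fun c => by
        rw [← eich_inv (hq1 c) (hpN ha.1 c)]; exact M.inv_mem (ha.2 c)⟩ }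
  let W : Submodule F (ι → F) :=
    { carrier := V
      zero_mem' := V.zero_mem
      add_mem' := fun ha hb => V.add_mem ha hb
      smul_mem' := fun t a ha => ⟨by
          rw [← algebraMap_smul L t a]; exact Submodule.smul_mem _ _ ha.1, fun c => by
        rw [← GeomClasses.OrthEich.eich_smul_left (hq1 c) (hpN ha.1 c), ← algebraMap_smul L t (c • y), smul_smul]
        exact ha.2 _⟩ }
  -- invariance
  have hinv : ∀ (h : O q), h ∈ M → (∀ z ∈ line L y, app h z = z) →
      (∀ z ∈ S.kperp ![y, y'], app h z ∈ S.kperp ![y, y']) → ∀ z ∈ W, app h z ∈ W := by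
    intro h hh hhl hhN z hz
    refine ⟨hhN z hz.1, fun c => ?_⟩
    have h1 := M.mul_mem (M.mul_mem hh (hz.2 c)) (M.inv_mem hh)
    rwa [eich_conj (hq1 c) (hpN hz.1 c), hhl _ (smul_mem_line c y)] at h1
  have hT : ∀ p v : ι → F, p ∈ S.kperp ![y, y'] → v ∈ S.kperp ![y, y'] → ∀ (hp : kb q τ p p = 0)
      (hpv : kb q τ p v = 0), S.kT hp hpv ∈ M ∧ (∀ z ∈ line L y, app (S.kT hp hpv) z = z) ∧
        (∀ z ∈ S.kperp ![y, y'], app (S.kT hp hpv) z ∈ S.kperp ![y, y']) := by
    intro p v hpN' hvN hp hpv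
    refine ⟨S.kT_mem hM hp hpv, fun z hz => ?_, fun z hz => ?_⟩
    · obtain ⟨k, rfl⟩ := mem_line.1 hz
      exact S.kT_fix hp hpv (by rw [S.kb_smul_right, S.kb_comm, show kb q τ y p = 0 from S.mem_kperp.1 hpN' 0, mul_zero])
        (by rw [S.kb_smul_right, S.kb_comm, show kb q τ y v = 0 from S.mem_kperp.1 hvN 0, mul_zero])
    · rw [S.app_kT]
      exact Submodule.sub_mem _ (Submodule.add_mem _ hz (Submodule.smul_mem _ _ hvN)) (Submodule.smul_mem _ _ hpN')
  have hdet : ∀ z ∈ S.kperp ![y, y'], z ≠ 0 → ∃ p ∈ S.kperp ![y, y'], kb q τ p p = 0 ∧ kb q τ z p ≠ 0 :=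
    fun z hz hz0 => S.exists_detect _ (by have := S.le_finrank_kperp ![y, y']; omega)
      (fun x hx hxx => S.pair_nondeg hy hy' hyy' hx hxx) hz hz0
  -- a first element
  obtain ⟨x₀, hx₀, hx₀0⟩ : ∃ x₀ ∈ W, x₀ ≠ 0 := by
    obtain ⟨c₀, rfl⟩ := mem_line.1 hw
    have hc₀ : c₀ ≠ 0 := fun h => hw0 (by rw [h, zero_smul])
    obtain ⟨ab, hab⟩ : ∃ ab, ab = a - kb q τ a y' • y := ⟨_, rfl⟩
    have habN : ab ∈ S.kperp ![y, y'] := by
      have h := S.sub_mem_pair hy hy' hyy' a
      rwa [S.kb_comm a y, hya, zero_smul, sub_zero, ← hab] at h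
    have hab0 : ab ≠ 0 := fun h => hal (by
      rw [hab, sub_eq_zero] at h
      exact h ▸ smul_mem_line _ y)
    obtain ⟨p, hpN', hp, habp⟩ := hdet ab habN hab0
    obtain ⟨v, hv, hvp⟩ : ∃ v ∈ S.kperp ![y, y', p], v ∉ Submodule.span L {p} := by
      by_contra hc
      push Not at hc
      have h1 := Submodule.finrank_mono (show S.kperp ![y, y', p] ≤ Submodule.span L {p} from hc)
      have h2 := S.le_finrank_kperp ![y, y', p]
      have h3 : finrank L ↥(Submodule.span L {p}) ≤ 1 :=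
        (finrank_span_le_card ({p} : Set (ι → F))).trans (by simp)
      omega
    have hvN : v ∈ S.kperp ![y, y'] := S.mem_kperp.2 fun i => by
      fin_cases i
      · exact S.mem_kperp.1 hv 0
      · exact S.mem_kperp.1 hv 1
    have hpv : kb q τ p v = 0 := S.mem_kperp.1 hv 2
    obtain ⟨hTM, hTl, hTN⟩ := hT p v hpN' hvN hp hpv
    obtain ⟨T, hTdef⟩ : ∃ T, T = S.kT hp hpv := ⟨_, rfl⟩
    have h1 := S.soft_comm hy hw hqa hya hg hgl hgx hTM hTl
    rw [← hTdef] at h1 hTM hTl hTN
    have hdiff : app T a - a = app T ab - ab := by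
      rw [hab, map_sub, hTl _ (smul_mem_line _ y)]; abel
    rw [hdiff] at h1
    obtain ⟨d, hd⟩ : ∃ d, d = app T ab - ab := ⟨_, rfl⟩
    rw [← hd] at h1
    have hdN : d ∈ S.kperp ![y, y'] := hd ▸ Submodule.sub_mem _ (hTN ab habN) habN
    refine ⟨d, ⟨hdN, fun c => ?_⟩, fun h0 => hvp ?_⟩
    · let A : AddSubgroup L :=
        { carrier := {c | eich q (c • y) d ∈ M}
          zero_mem' := by
            show eich q ((0 : L) • y) d ∈ M
            rw [zero_smul]
            have : eich q (0 : ι → F) d = 1 := ext_app fun x => by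
              rw [app_eich (QuadraticMap.map_zero q) (polar_zero_left ..), app_one, polar_zero_right]; simp
            rw [this]; exact M.one_mem
          add_mem' := fun {a b} ha hb => by
            show eich q ((a + b) • y) d ∈ M
            rw [S.eich_add_left hy (S.mem_kperp.1 hdN 0) a b, ← algebraMap_smul L (-q d) (b • y), smul_smul]
            exact M.mul_mem (M.mul_mem ha hb) (hlr a _)
          neg_mem' := fun {a} ha => by
            show eich q ((-a) • y) d ∈ M
            have h2 := S.eich_add_left hy (S.mem_kperp.1 hdN 0) (-a) a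
            rw [neg_add_cancel, zero_smul, ← algebraMap_smul L (-q d) (a • y), smul_smul,
              show eich q (0 : ι → F) d = 1 from ext_app fun x => by
                rw [app_eich (QuadraticMap.map_zero q) (polar_zero_left ..), app_one, polar_zero_right]; simp] at h2
            have h3 : eich q ((-a) • y) d =
                (eich q ((-a) • y) ((algebraMap F L (-q d) * a) • y))⁻¹ * (eich q (a • y) d)⁻¹ := by
              obtain ⟨A', hA'⟩ : ∃ A', A' = eich q ((-a) • y) d := ⟨_, rfl⟩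
              rw [← hA'] at h2 ⊢
              rw [← _root_.mul_inv_rev]
              exact eq_inv_of_mul_eq_one_left (by rw [← mul_assoc, ← h2])
            rw [h3]
            exact M.mul_mem (M.inv_mem (hlr _ _)) (M.inv_mem ha) }
      have hsq : ∀ k : L, k * k * c₀ ∈ A := fun k => by
        by_cases hk : k = 0
        · rw [hk, zero_mul, zero_mul]; exact A.zero_mem
        obtain ⟨h, hh, hhlin, hhy, hhN⟩ := S.exists_scale_elem hM hk hy hy' hyy'
        have h2 := M.mul_mem (M.mul_mem hh h1) (M.inv_mem hh)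
        rwa [eich_conj (hq1 _) (hpN hdN _), hhlin, hhy, hhN d hdN, smul_smul, mul_comm c₀] at h2
      have h2 := S.two'
      obtain ⟨e, he⟩ : ∃ e, e = c / (2 * c₀) := ⟨_, rfl⟩
      have := A.sub_mem (A.sub_mem (hsq (e + 1)) (hsq e)) (hsq 1)
      have hce : (e + 1) * (e + 1) * c₀ - e * e * c₀ - 1 * 1 * c₀ = c := by
        rw [he]; field_simp; ring
      rw [hce] at this
      exact this
    · rw [hd, hTdef, S.app_kT, sub_right_comm, add_sub_cancel_left, sub_eq_zero] at h0
      rw [← inv_smul_smul₀ habp v, h0, smul_smul]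
      exact Submodule.smul_mem _ _ (Submodule.mem_span_singleton_self p)
  -- everything
  suffices hall : x ∈ W from hall.2 c
  by_contra hxW
  obtain ⟨R, hR⟩ : ∃ R, R = (Submodule.span L ({y, y'} : Set (ι → F))).restrictScalars F := ⟨_, rfl⟩
  have hxR : x ∉ W ⊔ R := fun h => by
    obtain ⟨z, hz, b, hb, hzb⟩ := Submodule.mem_sup.1 h
    rw [hR, Submodule.restrictScalars_mem] at hb
    obtain ⟨k, l, rfl⟩ := Submodule.mem_span_pair.1 hb
    have h0 : k • y + l • y' ∈ S.kperp ![y, y'] := by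
      have := Submodule.sub_mem _ hx hz.1
      rwa [← hzb, add_sub_cancel_left] at this
    have e0 : kb q τ y (k • y + l • y') = 0 := S.mem_kperp.1 h0 0
    have e1 : kb q τ y' (k • y + l • y') = 0 := S.mem_kperp.1 h0 1
    rw [S.kb_add_right, S.kb_smul_right, S.kb_smul_right, hy, hyy', mul_zero, zero_add, mul_one] at e0
    rw [S.kb_add_right, S.kb_smul_right, S.kb_smul_right, hy', S.kb_comm y' y, hyy', mul_zero, add_zero,
      mul_one] at e1
    rw [e0, e1, zero_smul, zero_smul, add_zero, add_zero] at hzb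
    exact hxW (hzb ▸ hz)
  obtain ⟨z, hz, hzx⟩ := S.exists_orth_pairing hxR
  rw [GeomClasses.OrthTools.mem_orth] at hz
  have hzN : z ∈ S.kperp ![y, y'] := S.mem_kperp.2 fun i => by
    fin_cases i <;> refine S.kb_eq_zero fun d => hz _ (Submodule.mem_sup_right ?_) <;> rw [hR]
    · exact Submodule.smul_mem _ d (Submodule.subset_span (by simp))
    · exact Submodule.smul_mem _ d (Submodule.subset_span (by simp))
  have hzero : ∀ p ∈ S.kperp ![y, y'], kb q τ p p = 0 → kb q τ x₀ p ≠ 0 → kb q τ z p = 0 := by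
    intro p hpN' hp hxp
    by_contra hzp
    obtain ⟨v, hv, hvv⟩ : ∃ v ∈ S.kperp ![y, y', p], kb q τ v v ≠ 0 := by
      obtain ⟨α, β, hp', hpp'⟩ := S.exists_partner (u := p) (z := x₀) hp (by rwa [S.kb_comm])
      obtain ⟨p', hp'def⟩ : ∃ p', p' = α • x₀ + β • p := ⟨_, rfl⟩
      rw [← hp'def] at hp' hpp'
      have hp'N : p' ∈ S.kperp ![y, y'] :=
        hp'def ▸ Submodule.add_mem _ (Submodule.smul_mem _ _ hx₀.1) (Submodule.smul_mem _ _ hpN')
      obtain ⟨e, he, he0⟩ := Submodule.exists_mem_ne_zero_of_ne_bot (p := S.kperp ![y, y', p, p']) (fun h => by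
        have h2 := S.le_finrank_kperp ![y, y', p, p']
        rw [h, finrank_bot] at h2
        omega)
      have m : ∀ x, x ∈ S.kperp ![y, y', p, p'] → x ∈ S.kperp ![y, y', p] := fun x hx => S.mem_kperp.2 fun i => by
        fin_cases i
        · exact S.mem_kperp.1 hx 0
        · exact S.mem_kperp.1 hx 1
        · exact S.mem_kperp.1 hx 2
      by_contra hc
      push Not at hc
      refine he0 (S.kb_nondeg fun w => ?_)
      obtain ⟨w', hw'⟩ : ∃ w', w' = w - kb q τ w y' • y - kb q τ w y • y' - kb q τ w p' • p - kb q τ w p • p' :=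
        ⟨_, rfl⟩
      have c0 : kb q τ y p = 0 := S.mem_kperp.1 hpN' 0
      have c1 : kb q τ y' p = 0 := S.mem_kperp.1 hpN' 1
      have d0 : kb q τ y p' = 0 := S.mem_kperp.1 hp'N 0
      have d1 : kb q τ y' p' = 0 := S.mem_kperp.1 hp'N 1
      have hw'm : w' ∈ S.kperp ![y, y', p, p'] := S.mem_kperp.2 fun i => by
        fin_cases i
        · show kb q τ y w' = 0
          rw [hw', S.kb_comm]
          simp only [S.kb_sub_left, S.kb_smul_left, hy, S.kb_comm y' y, hyy', S.kb_comm p y, c0, S.kb_comm p' y, d0]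
          ring
        · show kb q τ y' w' = 0
          rw [hw', S.kb_comm]
          simp only [S.kb_sub_left, S.kb_smul_left, hy', hyy', S.kb_comm p y', c1, S.kb_comm p' y', d1]
          ring
        · show kb q τ p w' = 0
          rw [hw', S.kb_comm]
          simp only [S.kb_sub_left, S.kb_smul_left, hp, c0, c1, S.kb_comm p' p, hpp']
          ring
        · show kb q τ p' w' = 0
          rw [hw', S.kb_comm]
          simp only [S.kb_sub_left, S.kb_smul_left, hp', d0, d1, hpp']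
          ring
      have h1 := hc (e + w') (Submodule.add_mem _ (m e he) (m w' hw'm))
      rw [S.kb_add_left, S.kb_add_right, S.kb_add_right, hc e (m e he), hc w' (m w' hw'm), S.kb_comm w' e, zero_add,
        add_zero, ← two_mul] at h1
      have h2 := (mul_eq_zero.1 h1).resolve_left S.two'
      have b0 : kb q τ e y = 0 := by rw [S.kb_comm]; exact S.mem_kperp.1 he 0
      have b1 : kb q τ e y' = 0 := by rw [S.kb_comm]; exact S.mem_kperp.1 he 1
      have b2 : kb q τ e p = 0 := by rw [S.kb_comm]; exact S.mem_kperp.1 he 2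
      have b3 : kb q τ e p' = 0 := by rw [S.kb_comm]; exact S.mem_kperp.1 he 3
      rw [hw'] at h2
      simp only [S.kb_sub_right, S.kb_smul_right, b0, b1, b2, b3, mul_zero, sub_zero] at h2
      exact h2
    have hvN : v ∈ S.kperp ![y, y'] := S.mem_kperp.2 fun i => by
      fin_cases i
      · exact S.mem_kperp.1 hv 0
      · exact S.mem_kperp.1 hv 1
    obtain ⟨k, hk⟩ := S.exists_scale (c := kb q τ v v * kb q τ x₀ p * kb q τ z p)
      (mul_ne_zero (mul_ne_zero hvv hxp) hzp)
    have hp1 : kb q τ p (k • v) = 0 := by rw [S.kb_smul_right, show kb q τ p v = 0 from S.mem_kperp.1 hv 2, mul_zero]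
    have hp2 : kb q τ p (-(k • v)) = 0 := by rw [S.kb_neg_right, hp1, neg_zero]
    obtain ⟨m1, l1, n1⟩ := hT p (k • v) hpN' (Submodule.smul_mem _ _ hvN) hp hp1
    obtain ⟨m2, l2, n2⟩ := hT p (-(k • v)) hpN' (Submodule.neg_mem _ (Submodule.smul_mem _ _ hvN)) hp hp2
    have h1 := W.sub_mem (W.add_mem (hinv _ m1 l1 n1 x₀ hx₀) (hinv _ m2 l2 n2 x₀ hx₀)) (W.add_mem hx₀ hx₀)
    have h2 : (-(k * k * (kb q τ v v * kb q τ x₀ p))) • p ∈ W := by
      convert h1 using 1
      simp only [S.app_kT, S.kb_neg_left, S.kb_neg_right, S.kb_smul_left, S.kb_smul_right]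
      have := S.two'
      match_scalars <;> field_simp <;> ring
    have h3 := hz _ (Submodule.mem_sup_left h2)
    rw [S.polar_eq, S.kb_smul_left, S.kb_comm p z, neg_mul, map_neg, neg_eq_zero] at h3
    exact hk (by rw [← h3]; congr 1; ring)
  have hz0 : z ≠ 0 := fun h => hzx (by rw [h, polar_zero_left])
  obtain ⟨p, hpN', hp, hzp⟩ := hdet z hzN hz0
  obtain ⟨p₀, hp₀N, hp₀, hxp₀⟩ := hdet x₀ hx₀.1 hx₀0
  have hxp : kb q τ x₀ p = 0 := by
    by_contra h
    exact hzp (hzero p hpN' hp h)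
  have hzp₀ := hzero p₀ hp₀N hp₀ hxp₀
  by_cases hpp : kb q τ p p₀ = 0
  · have h1 := hzero (p + p₀) (Submodule.add_mem _ hpN' hp₀N)
      (by rw [S.kb_add_left, S.kb_add_right, S.kb_add_right, hp, hp₀, hpp, S.kb_comm p₀ p, hpp]; ring)
      (by rwa [S.kb_add_right, hxp, zero_add])
    rw [S.kb_add_right, hzp₀, add_zero] at h1
    exact hzp h1
  obtain ⟨v, hv, hvv⟩ : ∃ v ∈ S.kperp ![y, y', p, p₀], kb q τ v v ≠ 0 := by
    by_contra hc
    push Not at hc
    obtain ⟨v, hv, hv0⟩ := Submodule.exists_mem_ne_zero_of_ne_bot (p := S.kperp ![y, y', p, p₀]) (fun h => by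
      have h2 := S.le_finrank_kperp ![y, y', p, p₀]
      rw [h, finrank_bot] at h2
      omega)
    have b0 : kb q τ v y = 0 := by rw [S.kb_comm]; exact S.mem_kperp.1 hv 0
    have b1 : kb q τ v y' = 0 := by rw [S.kb_comm]; exact S.mem_kperp.1 hv 1
    have b2 : kb q τ v p = 0 := by rw [S.kb_comm]; exact S.mem_kperp.1 hv 2
    have b3 : kb q τ v p₀ = 0 := by rw [S.kb_comm]; exact S.mem_kperp.1 hv 3
    have c0 : kb q τ y p = 0 := S.mem_kperp.1 hpN' 0
    have c1 : kb q τ y' p = 0 := S.mem_kperp.1 hpN' 1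
    have d0 : kb q τ y p₀ = 0 := S.mem_kperp.1 hp₀N 0
    have d1 : kb q τ y' p₀ = 0 := S.mem_kperp.1 hp₀N 1
    refine hv0 (S.kb_nondeg fun w => ?_)
    obtain ⟨w', hw'⟩ : ∃ w', w' = w - kb q τ w y' • y - kb q τ w y • y' - (kb q τ w p₀ / kb q τ p p₀) • p -
        (kb q τ w p / kb q τ p p₀) • p₀ := ⟨_, rfl⟩
    have hw'm : w' ∈ S.kperp ![y, y', p, p₀] := S.mem_kperp.2 fun i => by
      fin_cases i
      · show kb q τ y w' = 0
        rw [hw', S.kb_comm]
        simp only [S.kb_sub_left, S.kb_smul_left, hy, S.kb_comm y' y, hyy', S.kb_comm p y, c0, S.kb_comm p₀ y, d0]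
        ring
      · show kb q τ y' w' = 0
        rw [hw', S.kb_comm]
        simp only [S.kb_sub_left, S.kb_smul_left, hy', hyy', S.kb_comm p y', c1, S.kb_comm p₀ y', d1]
        ring
      · show kb q τ p w' = 0
        rw [hw', S.kb_comm]
        simp only [S.kb_sub_left, S.kb_smul_left, hp, c0, c1, S.kb_comm p₀ p]
        field_simp
        ring
      · show kb q τ p₀ w' = 0
        rw [hw', S.kb_comm]
        simp only [S.kb_sub_left, S.kb_smul_left, hp₀, d0, d1]
        field_simp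
        ring
    have h1 := hc (v + w') (Submodule.add_mem _ hv hw'm)
    rw [S.kb_add_left, S.kb_add_right, S.kb_add_right, hc v hv, hc w' hw'm, S.kb_comm w' v, zero_add, add_zero,
      ← two_mul] at h1
    have h2 := (mul_eq_zero.1 h1).resolve_left S.two'
    rw [hw'] at h2
    simp only [S.kb_sub_right, S.kb_smul_right, b0, b1, b2, b3, mul_zero, sub_zero] at h2
    exact h2
  have hvN : v ∈ S.kperp ![y, y'] := S.mem_kperp.2 fun i => by
    fin_cases i
    · exact S.mem_kperp.1 hv 0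
    · exact S.mem_kperp.1 hv 1
  have hvp : kb q τ p v = 0 := S.mem_kperp.1 hv 2
  have hvp₀ : kb q τ p₀ v = 0 := S.mem_kperp.1 hv 3
  obtain ⟨j, hj⟩ : ∃ j : L, j ≠ 1 ∧ j ≠ -1 ∧ j ≠ 0 := by
    by_contra hc
    push Not at hc
    classical
    have hsub : (Finset.univ : Finset L) ⊆ {1, -1, 0} := fun k _ => by
      by_cases h1 : k = 1
      · simp [h1]
      by_cases h2 : k = -1
      · simp [h2]
      simp [hc k h1 h2]
    have h1 := (Finset.card_le_card hsub).trans
      ((Finset.card_insert_le _ _).trans (Nat.add_le_add_right ((Finset.card_insert_le _ _).trans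
        (Nat.add_le_add_right (Finset.card_singleton _).le _)) _))
    have h4 := Module.card_eq_pow_finrank (K := F) (V := L)
    have h5 : 2 ≤ Fintype.card F := Fintype.one_lt_card
    have h6 : 2 ^ 2 ≤ Fintype.card F ^ finrank F L := by rw [hr]; exact Nat.pow_le_pow_left h5 2
    rw [Finset.card_univ] at h1
    omega
  obtain ⟨k, hk0, hkp, hkm⟩ : ∃ k : L, k ≠ 0 ∧ kb q τ x₀ p₀ + k * kb q τ x₀ v ≠ 0 ∧
      kb q τ x₀ p₀ - k * kb q τ x₀ v ≠ 0 := by
    by_cases h1 : kb q τ x₀ p₀ + kb q τ x₀ v ≠ 0 ∧ kb q τ x₀ p₀ - kb q τ x₀ v ≠ 0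
    · exact ⟨1, one_ne_zero, by rw [one_mul]; exact h1.1, by rw [one_mul]; exact h1.2⟩
    have hmain : ∀ d : L, d = kb q τ x₀ p₀ ∨ d = -kb q τ x₀ p₀ →
        kb q τ x₀ p₀ + j * d ≠ 0 ∧ kb q τ x₀ p₀ - j * d ≠ 0 := by
      intro d hd
      have h3 : (1 + j) * kb q τ x₀ p₀ ≠ 0 := mul_ne_zero (fun e => hj.2.1 (by linear_combination e)) hxp₀
      have h4 : (1 - j) * kb q τ x₀ p₀ ≠ 0 := mul_ne_zero (fun e => hj.1 (by linear_combination -e)) hxp₀
      rcases hd with rfl | rfl
      · exact ⟨fun h => h3 (by linear_combination h), fun h => h4 (by linear_combination h)⟩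
      · exact ⟨fun h => h4 (by linear_combination h), fun h => h3 (by linear_combination h)⟩
    refine ⟨j, hj.2.2, hmain _ ?_⟩
    rcases not_and_or.1 h1 with h2 | h2 <;> rw [not_not] at h2
    · exact Or.inr (by linear_combination h2)
    · exact Or.inl (by linear_combination -h2)
  obtain ⟨α, hα⟩ : ∃ α, α = -(k * k * kb q τ v v) / (2 * kb q τ p p₀) := ⟨_, rfl⟩
  have h2 := S.two'
  have hα0 : α ≠ 0 := by
    rw [hα]; exact div_ne_zero (neg_ne_zero.2 (mul_ne_zero (mul_ne_zero hk0 hk0) hvv)) (mul_ne_zero h2 hpp)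
  have hmem : ∀ e : L, p₀ + (e * k) • v + α • p ∈ S.kperp ![y, y'] := fun e =>
    Submodule.add_mem _ (Submodule.add_mem _ hp₀N (Submodule.smul_mem _ _ hvN)) (Submodule.smul_mem _ _ hpN')
  have hsing : ∀ e : L, e * e = 1 → kb q τ (p₀ + (e * k) • v + α • p) (p₀ + (e * k) • v + α • p) = 0 := by
    intro e he
    simp only [S.kb_add_left, S.kb_add_right, S.kb_smul_left, S.kb_smul_right, hp, hp₀, hvp, hvp₀,
      S.kb_comm p₀ p, S.kb_comm v p, S.kb_comm v p₀, hα]
    field_simp
    linear_combination (4 * kb q τ p p₀ ^ 2 * k ^ 2 * kb q τ v v) * he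
  have e1 := hzero _ (hmem 1) (hsing 1 (by ring)) (by
    rw [S.kb_add_right, S.kb_add_right, S.kb_smul_right, S.kb_smul_right, hxp, one_mul, mul_zero, add_zero]
    exact hkp)
  have e2 := hzero _ (hmem (-1)) (hsing (-1) (by ring)) (by
    rw [S.kb_add_right, S.kb_add_right, S.kb_smul_right, S.kb_smul_right, hxp, neg_one_mul, neg_mul, mul_zero,
      add_zero, ← sub_eq_add_neg]
    exact hkm)
  simp only [S.kb_add_right, S.kb_smul_right, hzp₀, one_mul, neg_mul, zero_add] at e1 e2
  have : (2 * α) * kb q τ z p = 0 := by linear_combination e1 + e2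
  exact hzp ((mul_eq_zero.1 this).resolve_left (mul_ne_zero h2 hα0))

theorem Setup.full_of_soft_two [hW : Wide F ι L] {M : Subgroup (O q)} (hM : HasLin L M) (hr : finrank F L = 2) {y y' : ι → F}
    (hy0 : y ≠ 0) (hy : kb q τ y y = 0) (hy' : kb q τ y' y' = 0) (hyy' : kb q τ y y' = 1)
    (hsoft : Soft (L := L) (τ := τ) M y) {u u' : ι → F} (hu0 : u ≠ 0) (hu : kb q τ u u = 0)
    (hu'0 : u' ≠ 0) (hu' : kb q τ u' u' = 0) (huu' : kb q τ u u' = 1) {ω : L} :
    GeomClasses.OrthEich.Full M (ω • u) := by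
  have := S.finite
  have hlr := S.lineRoots_of_soft hM hy0 hy hsoft
  have hP : ∀ t, t ≠ 0 → kb q τ t t = 0 → ∀ x, kb q τ t x = 0 → ∀ c : L, eich q (c • t) x ∈ M := by
    intro t ht0 ht x hx c
    obtain ⟨g, hg, hgl, c₁, hc₁, hgy⟩ := S.exists_move hM hy0 hy ht0 ht
    have hgt : app g ((c / c₁) • y) = c • t := by
      rw [hgl, hgy, smul_smul, div_mul_cancel₀ _ hc₁]
    obtain ⟨x', hx'⟩ : ∃ x', x' = app g⁻¹ x := ⟨_, rfl⟩
    have hyx : kb q τ y x' = 0 := S.kb_eq_zero fun d => by
      rw [← polar_app g, hx', app_app_inv, hgl, hgy, smul_smul, S.polar_eq, S.kb_smul_left, hx, mul_zero,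
        map_zero]
    have hq1 : q ((c / c₁) • y) = 0 := (S.line_singular hy (smul_mem_line _ y)).1
    have hp : polar q ((c / c₁) • y) x' = 0 := by
      rw [S.polar_eq, S.kb_smul_left, hyx, mul_zero, map_zero]
    have hxN : x' - kb q τ x' y' • y ∈ S.kperp ![y, y'] := by
      have h := S.sub_mem_pair hy hy' hyy' x'
      rwa [S.kb_comm x' y, hyx, zero_smul, sub_zero] at h
    have h1 : eich q ((c / c₁) • y) x' ∈ M := by
      rw [show x' = kb q τ x' y' • y + (x' - kb q τ x' y' • y) by abel,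
        ← eich_add hq1 (by rw [S.polar_smul_smul, hy, mul_zero, map_zero]) (by
          rw [polar_sub_right, hp, S.polar_smul_smul, hy, mul_zero, map_zero, sub_zero])]
      exact M.mul_mem (hlr _ _) (S.nroots_of_soft hM hr hy0 hy hy' hyy' hsoft hxN _)
    have h2 := M.mul_mem (M.mul_mem hg h1) (M.inv_mem hg)
    rwa [eich_conj hq1 hp, hgt, hx', app_app_inv] at h2
  refine S.full_of_parts hu hu' huu' (fun c d => hP u hu0 hu _ (by rw [S.kb_smul_right, hu, mul_zero]) c)
    (fun x hx => hP u hu0 hu x (S.mem_kperp.1 hx 0) ω) fun γ hγ => ?_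
  obtain ⟨e, he, he0⟩ := Submodule.exists_mem_ne_zero_of_ne_bot (p := S.kperp ![u, u']) (fun h => by
    have h2 := S.le_finrank_kperp ![u, u']
    have h3 := S.four_le
    rw [h, finrank_bot] at h2
    omega)
  obtain ⟨n, hnN, hn, hen⟩ := S.exists_detect (S.kperp ![u, u'])
    (by have := S.le_finrank_kperp ![u, u']; have := S.five_le hr; omega)
    (fun x hx hxx => S.pair_nondeg hu hu' huu' hx hxx) he he0
  obtain ⟨α, β, hn', hnn'⟩ := S.exists_partner hn (z := e) (by rwa [S.kb_comm])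
  obtain ⟨n', hn'def⟩ : ∃ n', n' = α • e + β • n := ⟨_, rfl⟩
  rw [← hn'def] at hn' hnn'
  have hn'N : n' ∈ S.kperp ![u, u'] := hn'def ▸ Submodule.add_mem _ (Submodule.smul_mem _ _ he) (Submodule.smul_mem _ _ hnN)
  have hroot : ∀ (t : ι → F) (m : ι → F), t ≠ 0 → kb q τ t t = 0 → kb q τ m m = 0 → kb q τ t m = 0 →
      ∀ c : L, Root M (c • t) m := fun t m ht0 ht hm htm c =>
    ⟨(S.line_singular ht (smul_mem_line c t)).1, S.q_eq_zero hm,
      by rw [S.polar_eq, S.kb_smul_left, htm, mul_zero, map_zero], fun s => by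
        refine hP t ht0 ht _ ?_ c
        rw [← algebraMap_smul L s m, S.kb_smul_right, htm, mul_zero]⟩
  have hu'n : kb q τ u' n = 0 := S.mem_kperp.1 hnN 1
  have hun : kb q τ u n = 0 := S.mem_kperp.1 hnN 0
  have hu'n' : kb q τ u' n' = 0 := S.mem_kperp.1 hn'N 1
  have hun' : kb q τ u n' = 0 := S.mem_kperp.1 hn'N 0
  have hR := (hroot u n hu0 hu hn hun ω).symm.comm (hroot u' n' hu'0 hu' hn' hu'n' γ).symm
    (by rw [S.polar_eq, hnn', S.one]; exact one_ne_zero)
    (by rw [S.polar_eq, S.kb_smul_right, S.kb_comm, hu'n, mul_zero, map_zero])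
    (by rw [S.polar_eq, S.kb_smul_left, hun', mul_zero, map_zero])
    (by rw [S.polar_smul_smul, huu', mul_one, hγ])
  have := hR.mem 1
  rwa [one_smul] at this

/-- The conclusion. -/
theorem Setup.commutator_le [hW : Wide F ι L] {M : Subgroup (O q)} (hM : HasLin L M) {g : O q} (hg : g ∈ M) {u : ι → F}
    (hu0 : u ≠ 0) (hu : kb q τ u u = 0) (hbreak : ∀ a : ι → F, img g (line L u) ≠ line L a) :
    commutator (O q) ≤ M := by
  obtain ⟨y, hy0, hy, hsoft⟩ := S.exists_soft hM (S.good_hyperplane hM hg hu0 hu hbreak)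
  obtain ⟨z, hz⟩ := S.exists_pairing hy0
  obtain ⟨α, β, hy', hyy'⟩ := S.exists_partner hy hz
  obtain ⟨y', hy'def⟩ : ∃ y', y' = α • z + β • y := ⟨_, rfl⟩
  rw [← hy'def] at hy' hyy'
  have hy'0 : y' ≠ 0 := fun h => by rw [h, S.kb_zero_right] at hyy'; exact zero_ne_one hyy'
  have hy'y : kb q τ y' y = 1 := by rw [S.kb_comm, hyy']
  have hpair : ∀ a b, a ≠ 0 → kb q τ a a = 0 → b ≠ 0 → kb q τ b b = 0 → kb q τ a b = 1 →
      GeomClasses.OrthEich.Full M ((1 : L) • a) := by
    intro a b ha0 ha hb0 hb hab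
    by_cases hr : 3 ≤ finrank F L
    · exact S.full_of_lineRoots hM hr hy0 hy (S.lineRoots_of_soft hM hy0 hy hsoft) ha0 ha hb hab one_ne_zero
    · exact S.full_of_soft_two hM (by have := S.prime.two_le; omega) hy0 hy hy' hyy' hsoft ha0 ha hb0 hb hab
  have h1 := hpair y y' hy0 hy hy'0 hy' hyy'
  have h2 := hpair y' y hy'0 hy' hy0 hy hy'y
  rw [one_smul] at h1 h2
  exact GeomClasses.OrthEich.commutator_le_of_pair S.nondeg (by have := hW.big; omega) h1 h2 (by
    rw [S.polar_eq, hy'y, S.one]; exact one_ne_zero)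

end CfsgLib.ExtFieldOrth
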