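import Cfsg.Agent.Lib.GeomClasses.OrthPair
import Cfsg.Agent.Lib.OrthFix.Omega

/-!
A field of self-adjoint operators on an orthogonal space over a finite field of odd order: the form with
values in the extension field and the geometry it carries.
-/

set_option autoImplicit false
set_option linter.unusedSectionVars false

namespace CfsgLib.ExtFieldOrth

open Matrix QuadraticMap Module CfsgLib.Orth

variable {F : Type*} [Field F] [Fintype F] {ι : Type} [Fintype ι] [DecidableEq ι]
  {L : Type*} [Field L] [Fintype L] [Algebra F L] [Module L (ι → F)] [IsScalarTower F L (ι → F)]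
  {q : QuadraticForm F (ι → F)} {τ : L →ₗ[F] F}

/-- A field `L` of prime degree of self-adjoint operators, with a functional `τ` on it. -/
structure Setup (q : QuadraticForm F (ι → F)) (τ : L →ₗ[F] F) : Prop where
  nondeg : q.polarBilin.Nondegenerate
  two : (2 : F) ≠ 0
  one : τ 1 = 1
  adj : ∀ (c : L) (x y : ι → F), polar q (c • x) y = polar q x (c • y)
  prime : (finrank F L).Prime
  three : 3 * finrank F L ≤ Fintype.card ι
  nine : 9 ≤ Fintype.card ι

variable (F ι) in
variable (L) in
/-- The space has dimension at least four over the extension field, and ten over the ground field. -/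
class Wide : Prop where
  four : 4 * finrank F L ≤ Fintype.card ι
  big : 10 ≤ Fintype.card ι

variable (τ) in
/-- The functional `c ↦ (d ↦ τ (d c))`. -/
def dmap : L →ₗ[F] Module.Dual F L where
  toFun c := τ ∘ₗ LinearMap.mulRight F c
  map_add' a b := LinearMap.ext fun d => by simp [mul_add]
  map_smul' a b := LinearMap.ext fun d => by simp

theorem dmap_apply (c d : L) : dmap τ c d = τ (d * c) := rfl

variable (q τ) in
/-- The form with values in `L`. -/
noncomputable def kb (x y : ι → F) : L :=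
  Function.invFun (dmap τ)
    ((q.polarBilin.flip y) ∘ₗ ((LinearMap.toSpanSingleton L (ι → F) x).restrictScalars F))

/-! ### The form -/

section

variable (S : Setup q τ)
include S

theorem Setup.finite : Module.Finite F L := Module.finite_of_finrank_pos S.prime.pos

theorem Setup.two' : (2 : L) ≠ 0 := by
  rw [← map_ofNat (algebraMap F L) 2, ne_eq, map_eq_zero]
  exact S.two

theorem Setup.ext_tau {c c' : L} (h : ∀ d, τ (d * c) = τ (d * c')) : c = c' := by
  by_contra hne
  have h1 : c - c' ≠ 0 := sub_ne_zero.2 hne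
  have := h (c - c')⁻¹
  rw [← sub_eq_zero, ← map_sub, ← mul_sub, inv_mul_cancel₀ h1, S.one] at this
  exact one_ne_zero this

theorem Setup.dmap_injective : Function.Injective (dmap τ) := fun _ _ h =>
  S.ext_tau fun d => LinearMap.congr_fun h d

theorem Setup.dmap_surjective : Function.Surjective (dmap τ) := by
  have := S.finite
  exact (LinearMap.injective_iff_surjective_of_finrank_eq_finrank
    (Subspace.dual_finrank_eq (K := F) (V := L)).symm).1 S.dmap_injective

theorem Setup.tau_kb (d : L) (x y : ι → F) : τ (d * kb q τ x y) = polar q (d • x) y := by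
  have h := Function.invFun_eq (S.dmap_surjective
    ((q.polarBilin.flip y) ∘ₗ ((LinearMap.toSpanSingleton L (ι → F) x).restrictScalars F)))
  exact LinearMap.congr_fun h d

theorem Setup.kb_unique {x y : ι → F} {c : L} (h : ∀ d, τ (d * c) = polar q (d • x) y) : kb q τ x y = c :=
  S.ext_tau fun d => by rw [S.tau_kb, h]

theorem Setup.kb_add_left (x x' y : ι → F) : kb q τ (x + x') y = kb q τ x y + kb q τ x' y :=
  S.kb_unique fun d => by rw [mul_add, map_add, S.tau_kb, S.tau_kb, smul_add, polar_add_left]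

theorem Setup.kb_smul_left (c : L) (x y : ι → F) : kb q τ (c • x) y = c * kb q τ x y :=
  S.kb_unique fun d => by rw [← mul_assoc, S.tau_kb, smul_smul]

theorem Setup.kb_comm (x y : ι → F) : kb q τ x y = kb q τ y x :=
  S.kb_unique fun d => by rw [S.tau_kb, S.adj, polar_comm]

theorem Setup.kb_add_right (x y y' : ι → F) : kb q τ x (y + y') = kb q τ x y + kb q τ x y' := by
  rw [S.kb_comm, S.kb_add_left, S.kb_comm y, S.kb_comm y']

theorem Setup.kb_smul_right (c : L) (x y : ι → F) : kb q τ x (c • y) = c * kb q τ x y := by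
  rw [S.kb_comm, S.kb_smul_left, S.kb_comm]

theorem Setup.polar_eq (x y : ι → F) : polar q x y = τ (kb q τ x y) := by
  rw [← one_mul (kb q τ x y), S.tau_kb, one_smul]

theorem Setup.polar_smul_smul (c d : L) (x y : ι → F) : polar q (c • x) (d • y) = τ (c * d * kb q τ x y) := by
  rw [S.polar_eq, S.kb_smul_left, S.kb_smul_right, mul_assoc]

theorem Setup.two_q (x : ι → F) : 2 * q x = τ (kb q τ x x) := by
  rw [← S.polar_eq, polar_self']

theorem Setup.q_eq_zero {x : ι → F} (h : kb q τ x x = 0) : q x = 0 := by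
  have := S.two_q x
  rw [h, map_zero] at this
  exact (mul_eq_zero.1 this).resolve_left S.two

theorem Setup.kb_eq_zero {x y : ι → F} (h : ∀ d : L, polar q (d • x) y = 0) : kb q τ x y = 0 :=
  S.kb_unique fun d => by rw [h, mul_zero, map_zero]

theorem Setup.kb_nondeg {x : ι → F} (h : ∀ y, kb q τ x y = 0) : x = 0 :=
  eq_zero_of_polar S.nondeg fun y => by rw [S.polar_eq, h, map_zero]

/-- The form with values in `L`, as a bilinear form. -/
noncomputable def Setup.kB : LinearMap.BilinForm L (ι → F) :=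
  LinearMap.mk₂ L (kb q τ) S.kb_add_left S.kb_smul_left S.kb_add_right S.kb_smul_right

theorem Setup.kB_apply (x y : ι → F) : S.kB x y = kb q τ x y := rfl

theorem Setup.kb_zero_left (y : ι → F) : kb q τ 0 y = 0 := by
  rw [← S.kB_apply, map_zero, LinearMap.zero_apply]

theorem Setup.kb_zero_right (y : ι → F) : kb q τ y 0 = 0 := by
  rw [← S.kB_apply, map_zero]

theorem Setup.kb_neg_left (x y : ι → F) : kb q τ (-x) y = -kb q τ x y := by
  rw [← S.kB_apply, map_neg, LinearMap.neg_apply]; rfl

theorem Setup.kb_neg_right (x y : ι → F) : kb q τ x (-y) = -kb q τ x y := by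
  rw [← S.kB_apply, map_neg]; rfl

theorem Setup.kb_sub_left (x x' y : ι → F) : kb q τ (x - x') y = kb q τ x y - kb q τ x' y := by
  rw [← S.kB_apply, map_sub, LinearMap.sub_apply]; rfl

theorem Setup.kb_sub_right (x y y' : ι → F) : kb q τ x (y - y') = kb q τ x y - kb q τ x y' := by
  rw [← S.kB_apply, map_sub]; rfl

theorem Setup.kB_isRefl : S.kB.IsRefl := fun x y h => by
  rw [S.kB_apply] at h ⊢; rwa [S.kb_comm]

theorem Setup.kB_nondeg : S.kB.Nondegenerate :=
  ⟨fun x h => S.kb_nondeg fun y => by simpa [S.kB_apply] using h y,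
   fun x h => S.kb_nondeg fun y => by rw [S.kb_comm]; simpa [S.kB_apply] using h y⟩

/-! ### Dimensions -/

theorem Setup.finiteL : Module.Finite L (ι → F) := Module.Finite.of_restrictScalars_finite F L _

theorem Setup.card_eq : finrank F L * finrank L (ι → F) = Fintype.card ι := by
  rw [Module.finrank_mul_finrank, Module.finrank_fintype_fun_eq_card]

theorem Setup.three_le : 3 ≤ finrank L (ι → F) := by
  have h1 := S.card_eq
  have h2 := S.three
  exact Nat.le_of_mul_le_mul_left (by rw [h1, mul_comm]; exact h2) S.prime.pos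

theorem Setup.four_le [hW : Wide F ι L] : 4 ≤ finrank L (ι → F) := by
  have h1 := S.card_eq
  have h2 := hW.four
  exact Nat.le_of_mul_le_mul_left (by rw [h1, mul_comm]; exact h2) S.prime.pos

theorem Setup.five_le [hW : Wide F ι L] (hr : finrank F L = 2) : 5 ≤ finrank L (ι → F) := by
  have h1 := S.card_eq
  have h2 := hW.big
  rw [hr] at h1
  omega

omit S

/-- The vectors orthogonal over `L` to the given ones. -/
noncomputable def Setup.kperp (S : Setup q τ) {k : ℕ} (a : Fin k → ι → F) : Submodule L (ι → F) :=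
  LinearMap.ker (LinearMap.pi fun i => S.kB (a i))

include S

theorem Setup.mem_kperp {k : ℕ} {a : Fin k → ι → F} {x : ι → F} :
    x ∈ S.kperp a ↔ ∀ i, kb q τ (a i) x = 0 := by
  rw [Setup.kperp, LinearMap.mem_ker]
  exact funext_iff

theorem Setup.le_finrank_kperp {k : ℕ} (a : Fin k → ι → F) :
    finrank L (ι → F) ≤ finrank L (S.kperp a) + k := by
  have := S.finiteL
  have h := LinearMap.finrank_range_add_finrank_ker (LinearMap.pi fun i => S.kB (a i))
  have h2 := Submodule.finrank_le (LinearMap.range (LinearMap.pi fun i => S.kB (a i)))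
  rw [Module.finrank_fin_fun] at h2
  rw [Setup.kperp]
  omega

/-! ### Vectors -/

theorem Setup.exists_scale {c : L} (hc : c ≠ 0) : ∃ k : L, τ (k * k * c) ≠ 0 := by
  by_contra h
  push Not at h
  refine hc (S.ext_tau fun d => ?_)
  have h1 : ((d + 1) * (d + 1) * c) = d * d * c + 2 * (d * c) + 1 * 1 * c := by ring
  have h2 := congrArg τ h1
  rw [h, map_add, map_add, h, h, zero_add, add_zero, two_mul, map_add, ← two_mul] at h2
  rw [mul_zero, map_zero]
  exact (mul_eq_zero.1 h2.symm).resolve_left S.two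

theorem Setup.exists_aniso (X : Submodule L (ι → F)) (h : finrank L (ι → F) < 2 * finrank L X) :
    ∃ a ∈ X, kb q τ a a ≠ 0 := by
  have := S.finiteL
  by_contra hc
  push Not at hc
  have hle : X ≤ LinearMap.BilinForm.orthogonal S.kB X := fun x hx => by
    refine LinearMap.BilinForm.mem_orthogonal_iff.2 fun y hy => ?_
    have h1 := hc (y + x) (X.add_mem hy hx)
    rw [S.kb_add_left, S.kb_add_right, S.kb_add_right, hc y hy, hc x hx, zero_add, add_zero, S.kb_comm x y,
      ← two_mul] at h1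
    exact (mul_eq_zero.1 h1).resolve_left S.two'
  have h2 := Submodule.finrank_mono hle
  rw [LinearMap.BilinForm.finrank_orthogonal S.kB_nondeg] at h2
  omega

theorem Setup.kb_comb (x y : L) (a b : ι → F) :
    kb q τ (x • a + y • b) (x • a + y • b) =
      x ^ 2 * kb q τ a a + 2 * (x * y) * kb q τ a b + y ^ 2 * kb q τ b b := by
  rw [S.kb_add_left, S.kb_add_right, S.kb_add_right, S.kb_smul_left, S.kb_smul_left, S.kb_smul_left,
    S.kb_smul_left, S.kb_smul_right, S.kb_smul_right, S.kb_smul_right, S.kb_smul_right, S.kb_comm b a]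
  ring

theorem Setup.exists_value {a b : ι → F} (ha : kb q τ a a ≠ 0) (hb : kb q τ b b ≠ 0) (hab : kb q τ a b = 0)
    (c : L) : ∃ x y : L, kb q τ (x • a + y • b) (x • a + y • b) = c := by
  obtain ⟨x, y, h⟩ := CfsgLib.Orth.exists_binary S.two' ha hb c
  refine ⟨x, y, ?_⟩
  rw [S.kb_comb, hab, ← h]
  ring

/-- A subspace of dimension at least three has a non-zero isotropic vector. -/
theorem Setup.exists_ksing (X : Submodule L (ι → F)) (h3 : 3 ≤ finrank L X) :
    ∃ x ∈ X, x ≠ 0 ∧ kb q τ x x = 0 := by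
  have := S.finiteL
  by_contra hc
  push Not at hc
  have step : ∀ Y : Submodule L (ι → F), ∀ a : ι → F,
      finrank L Y ≤ finrank L ↥(Y ⊓ LinearMap.ker (S.kB a)) + 1 := by
    intro Y a
    have h1 := Submodule.finrank_sup_add_finrank_inf_eq Y (LinearMap.ker (S.kB a))
    have h2 := Submodule.finrank_le (Y ⊔ LinearMap.ker (S.kB a))
    have h3 := LinearMap.finrank_range_add_finrank_ker (S.kB a)
    have h4 := Submodule.finrank_le (LinearMap.range (S.kB a))
    rw [Module.finrank_self] at h4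
    omega
  have hne : ∀ Y : Submodule L (ι → F), 1 ≤ finrank L Y → ∃ y ∈ Y, y ≠ 0 := fun Y hY =>
    Submodule.exists_mem_ne_zero_of_ne_bot fun h => by rw [h, finrank_bot] at hY; omega
  obtain ⟨a, ha, ha0⟩ := hne X (by omega)
  have h1 := step X a
  obtain ⟨b, hb, hb0⟩ := hne (X ⊓ LinearMap.ker (S.kB a)) (by omega)
  have h2 := step (X ⊓ LinearMap.ker (S.kB a)) b
  obtain ⟨d, hd, hd0⟩ := hne (X ⊓ LinearMap.ker (S.kB a) ⊓ LinearMap.ker (S.kB b)) (by omega)
  obtain ⟨⟨hdX, had⟩, hbd⟩ := hd
  obtain ⟨hbX, hab⟩ := hb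
  rw [SetLike.mem_coe, LinearMap.mem_ker, S.kB_apply] at had hbd hab
  have hA := hc a ha ha0
  have hB := hc b hbX hb0
  obtain ⟨x, y, hxy⟩ := S.exists_value hA hB hab (-kb q τ d d)
  refine hc (x • a + y • b + d) (X.add_mem (X.add_mem (X.smul_mem _ ha) (X.smul_mem _ hbX)) hdX) ?_ ?_
  · intro h
    have h' := congrArg (fun z => kb q τ z d) h
    simp only [S.kb_add_left, S.kb_smul_left, had, hbd, mul_zero, zero_add, S.kb_zero_left] at h'
    exact hc d hdX hd0 h'
  · rw [S.kb_add_left, S.kb_add_right, hxy, S.kb_add_right (y := x • a + y • b) (y' := d) (x := d)]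
    simp only [S.kb_add_left, S.kb_add_right, S.kb_smul_left, S.kb_smul_right, had, hbd, S.kb_comm d a, S.kb_comm d b,
      mul_zero, zero_add, add_zero]
    ring

/-- An isotropic partner. -/
theorem Setup.exists_partner {u z : ι → F} (hu : kb q τ u u = 0) (hz : kb q τ u z ≠ 0) :
    ∃ a c : L, kb q τ (a • z + c • u) (a • z + c • u) = 0 ∧ kb q τ u (a • z + c • u) = 1 := by
  refine ⟨(kb q τ u z)⁻¹, -((kb q τ u z)⁻¹ ^ 2 * kb q τ z z / 2), ?_, ?_⟩
  · rw [S.kb_comb, hu, S.kb_comm z u]
    have := S.two'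
    field_simp
    ring
  · rw [S.kb_add_right, S.kb_smul_right, S.kb_smul_right, hu, mul_zero, add_zero, inv_mul_cancel₀ hz]

theorem Setup.exists_orth_pairing {W : Submodule F (ι → F)} {v : ι → F} (hv : v ∉ W) :
    ∃ y, y ∈ GeomClasses.OrthTools.orth q W ∧ polar q y v ≠ 0 := by
  by_contra hc
  push Not at hc
  apply hv
  rw [← LinearMap.BilinForm.orthogonal_orthogonal S.nondeg (polarBilin_isRefl S.nondeg) W]
  exact LinearMap.BilinForm.mem_orthogonal_iff.2 fun y hy => hc y hy

theorem Setup.exists_pairing {u : ι → F} (hu : u ≠ 0) : ∃ z, kb q τ u z ≠ 0 := by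
  by_contra h
  push Not at h
  exact hu (S.kb_nondeg h)

/-- An isotropic vector of a non-degenerate subspace pairing with a given vector of it. -/
theorem Setup.exists_detect (X : Submodule L (ι → F)) (h3 : 3 ≤ finrank L X)
    (hX : ∀ x ∈ X, (∀ y ∈ X, kb q τ x y = 0) → x = 0) {z : ι → F} (hz : z ∈ X) (hz0 : z ≠ 0) :
    ∃ p ∈ X, kb q τ p p = 0 ∧ kb q τ z p ≠ 0 := by
  by_contra hc
  push Not at hc
  obtain ⟨u, huX, hu0, hu⟩ := S.exists_ksing X h3
  obtain ⟨y, hyX, hy⟩ : ∃ y ∈ X, kb q τ u y ≠ 0 := by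
    by_contra h
    push Not at h
    exact hu0 (hX u huX h)
  obtain ⟨α, γ, hu', huu'⟩ := S.exists_partner hu hy
  obtain ⟨u', hu'def⟩ : ∃ u', u' = α • y + γ • u := ⟨_, rfl⟩
  rw [← hu'def] at hu' huu'
  have hu'X : u' ∈ X := hu'def ▸ X.add_mem (X.smul_mem _ hyX) (X.smul_mem _ huX)
  have hzu := hc u huX hu
  have hzu' := hc u' hu'X hu'
  refine hz0 (hX z hz fun x hx => ?_)
  obtain ⟨w, hw⟩ : ∃ w, w = x - kb q τ x u' • u - kb q τ x u • u' := ⟨_, rfl⟩
  have hwX : w ∈ X := hw ▸ X.sub_mem (X.sub_mem hx (X.smul_mem _ huX)) (X.smul_mem _ hu'X)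
  have hwu : kb q τ w u = 0 := by
    rw [hw, S.kb_sub_left, S.kb_sub_left, S.kb_smul_left, S.kb_smul_left, hu, S.kb_comm u' u, huu']; ring
  have hwu' : kb q τ w u' = 0 := by
    rw [hw, S.kb_sub_left, S.kb_sub_left, S.kb_smul_left, S.kb_smul_left, hu', huu']; ring
  have h1 := hc (u + (w + (-(kb q τ w w / 2)) • u')) (X.add_mem huX (X.add_mem hwX (X.smul_mem _ hu'X))) (by
    simp only [S.kb_add_left, S.kb_add_right, S.kb_smul_left, S.kb_smul_right, hu, hu', huu', S.kb_comm u' u, hwu,
      hwu', S.kb_comm u w, S.kb_comm u' w]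
    have := S.two'
    field_simp
    ring)
  rw [S.kb_add_right, S.kb_add_right, S.kb_smul_right, hzu, hzu', mul_zero, add_zero, zero_add] at h1
  rw [show x = w + (kb q τ x u' • u + kb q τ x u • u') by rw [hw]; abel, S.kb_add_right, S.kb_add_right,
    S.kb_smul_right, S.kb_smul_right, h1, hzu, hzu']
  ring

/-- The orthogonal complement of a hyperbolic pair. -/
theorem Setup.sub_mem_pair {u u' : ι → F} (hu : kb q τ u u = 0) (hu' : kb q τ u' u' = 0)
    (huu' : kb q τ u u' = 1) (x : ι → F) :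
    x - kb q τ x u' • u - kb q τ x u • u' ∈ S.kperp ![u, u'] := by
  refine S.mem_kperp.2 fun i => ?_
  fin_cases i
  · show kb q τ u _ = 0
    rw [S.kb_sub_right, S.kb_sub_right, S.kb_smul_right, S.kb_smul_right, hu, huu', S.kb_comm u x]; ring
  · show kb q τ u' _ = 0
    rw [S.kb_sub_right, S.kb_sub_right, S.kb_smul_right, S.kb_smul_right, hu', S.kb_comm u' u, huu',
      S.kb_comm u' x]; ring

theorem Setup.pair_nondeg {u u' : ι → F} (hu : kb q τ u u = 0) (hu' : kb q τ u' u' = 0)
    (huu' : kb q τ u u' = 1) {x : ι → F} (hx : x ∈ S.kperp ![u, u'])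
    (h : ∀ y ∈ S.kperp ![u, u'], kb q τ x y = 0) : x = 0 := by
  refine S.kb_nondeg fun y => ?_
  have h1 := h _ (S.sub_mem_pair hu hu' huu' y)
  have hxu : kb q τ x u = 0 := by rw [S.kb_comm]; exact S.mem_kperp.1 hx 0
  have hxu' : kb q τ x u' = 0 := by rw [S.kb_comm]; exact S.mem_kperp.1 hx 1
  rw [S.kb_sub_right, S.kb_sub_right, S.kb_smul_right, S.kb_smul_right, hxu, hxu'] at h1
  linear_combination h1

/-- An anisotropic vector orthogonal to a hyperbolic pair. -/
theorem Setup.exists_anisotropic_perp {u u' : ι → F} (hu : kb q τ u u = 0) (hu' : kb q τ u' u' = 0)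
    (huu' : kb q τ u u' = 1) : ∃ a ∈ S.kperp ![u, u'], kb q τ a a ≠ 0 := by
  have := S.finiteL
  have h3 := S.three_le
  have hN := S.le_finrank_kperp ![u, u']
  by_contra hc
  push Not at hc
  obtain ⟨x, hx, hx0⟩ := Submodule.exists_mem_ne_zero_of_ne_bot (p := S.kperp ![u, u'])
    fun h => by rw [h, finrank_bot] at hN; omega
  refine hx0 (S.pair_nondeg hu hu' huu' hx fun y hy => ?_)
  have h1 := hc (x + y) (Submodule.add_mem _ hx hy)
  rw [S.kb_add_left, S.kb_add_right, S.kb_add_right, hc x hx, hc y hy, zero_add, add_zero, S.kb_comm y x,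
    ← two_mul] at h1
  exact (mul_eq_zero.1 h1).resolve_left S.two'

theorem Setup.exists_two [Wide F ι L] {u u' : ι → F} (hu : kb q τ u u = 0) (hu' : kb q τ u' u' = 0)
    (huu' : kb q τ u u' = 1) : ∃ a b, a ∈ S.kperp ![u, u'] ∧ b ∈ S.kperp ![u, u'] ∧
      kb q τ a a ≠ 0 ∧ kb q τ b b ≠ 0 ∧ kb q τ a b = 0 := by
  have := S.finiteL
  have h4 := S.four_le
  have hN := S.le_finrank_kperp ![u, u']
  have hne : ∀ Y : Submodule L (ι → F), 1 ≤ finrank L Y → ∃ y ∈ Y, y ≠ 0 := fun Y hY =>
    Submodule.exists_mem_ne_zero_of_ne_bot fun h => by rw [h, finrank_bot] at hY; omega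
  obtain ⟨a, ha, haa⟩ := S.exists_anisotropic_perp hu hu' huu'
  obtain ⟨z, hz, hzz⟩ : ∃ z ∈ S.kperp ![u, u', a], z ≠ 0 := hne _ (by
    have := S.le_finrank_kperp ![u, u', a]; omega)
  have hzN : z ∈ S.kperp ![u, u'] := S.mem_kperp.2 fun i => by
    fin_cases i
    · exact S.mem_kperp.1 hz 0
    · exact S.mem_kperp.1 hz 1
  have haz : kb q τ a z = 0 := S.mem_kperp.1 hz 2
  by_contra hc
  push Not at hc
  refine hzz (S.pair_nondeg hu hu' huu' hzN fun y hy => ?_)
  have key : ∀ w ∈ S.kperp ![u, u'], kb q τ a w = 0 → kb q τ z w = 0 := fun w hw haw => by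
    have e : ∀ v ∈ S.kperp ![u, u'], kb q τ a v = 0 → kb q τ v v = 0 := fun v hv hav => by
      by_contra hvv
      exact hc a v ha hv haa hvv hav
    have h1 := e (z + w) (Submodule.add_mem _ hzN hw) (by rw [S.kb_add_right, haz, haw, add_zero])
    rw [S.kb_add_left, S.kb_add_right, S.kb_add_right, e z hzN haz, e w hw haw, zero_add, add_zero,
      S.kb_comm w z, ← two_mul] at h1
    exact (mul_eq_zero.1 h1).resolve_left S.two'
  have h1 := key (y - (kb q τ a y / kb q τ a a) • a) (Submodule.sub_mem _ hy (Submodule.smul_mem _ _ ha)) (by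
    rw [S.kb_sub_right, S.kb_smul_right, div_mul_cancel₀ _ haa, sub_self])
  rw [S.kb_sub_right, S.kb_smul_right, S.kb_comm z a, haz, mul_zero, sub_zero] at h1
  exact h1

/-- Every value is taken on the orthogonal complement of a hyperbolic pair. -/
theorem Setup.exists_value_pair [Wide F ι L] {u u' : ι → F} (hu : kb q τ u u = 0) (hu' : kb q τ u' u' = 0)
    (huu' : kb q τ u u' = 1) (c : L) : ∃ v ∈ S.kperp ![u, u'], kb q τ v v = c := by
  obtain ⟨a, b, ha, hb, haa, hbb, hab⟩ := S.exists_two hu hu' huu'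
  obtain ⟨x, y, h⟩ := S.exists_value haa hbb hab c
  exact ⟨_, Submodule.add_mem _ (Submodule.smul_mem _ _ ha) (Submodule.smul_mem _ _ hb), h⟩

end

end CfsgLib.ExtFieldOrth
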