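import Cfsg.Agent.Lib.ExtFieldOrth.Finish
import Cfsg.Agent.Lib.Geo.FieldTransvection

/-!
Maximality of the normaliser of a field of self-adjoint matrices in an orthogonal group.
-/

set_option autoImplicit false
set_option linter.unusedSectionVars false

namespace CfsgLib.ExtFieldOrth

open Matrix QuadraticMap Module CfsgLib.Orth CfsgLib.Maximal.TensorTools

variable {F : Type*} [Field F] [Fintype F] {ι : Type} [Fintype ι] [DecidableEq ι]

section

variable {L : Type*} [Field L] [Fintype L] [Algebra F L] [Module L (ι → F)] [IsScalarTower F L (ι → F)]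
  {q : QuadraticForm F (ι → F)} {τ : L →ₗ[F] F} (S : Setup q τ)
include S

/-- A map preserving every isotropic line and self-adjoint is a scalar. -/
theorem Setup.scalar_of_lines (j : (ι → F) →ₗ[F] (ι → F)) (hj : ∀ x y, polar q (j x) y = polar q x (j y))
    (hlines : ∀ t, t ≠ 0 → kb q τ t t = 0 → ∀ x ∈ line L t, j x ∈ line L t) :
    ∃ α : L, ∀ x, j x = α • x := by
  have := S.finiteL
  obtain ⟨u, -, hu0, hu⟩ := S.exists_ksing ⊤ (by rw [finrank_top]; exact S.three_le)
  obtain ⟨z, hz⟩ := S.exists_pairing hu0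
  obtain ⟨α₀, β₀, hu', huu'⟩ := S.exists_partner hu hz
  obtain ⟨u', hu'def⟩ : ∃ u', u' = α₀ • z + β₀ • u := ⟨_, rfl⟩
  rw [← hu'def] at hu' huu'
  have hu'0 : u' ≠ 0 := fun h => by rw [h, S.kb_zero_right] at huu'; exact zero_ne_one huu'
  have hline_u : ∀ k : L, ∃ A, j (k • u) = A • u := fun k =>
    (mem_line.1 (hlines u hu0 hu _ (smul_mem_line k u))).imp fun A h => h.symm
  have hline_u' : ∀ k : L, ∃ A, j (k • u') = A • u' := fun k =>
    (mem_line.1 (hlines u' hu'0 hu' _ (smul_mem_line k u'))).imp fun A h => h.symm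
  choose A hA using hline_u
  choose A' hA' using hline_u'
  refine ⟨A 1, ?_⟩
  have hN : ∀ z ∈ S.kperp ![u, u'], j z ∈ S.kperp ![u, u'] := fun z hz => by
    have e0 : kb q τ u z = 0 := S.mem_kperp.1 hz 0
    have e1 : kb q τ u' z = 0 := S.mem_kperp.1 hz 1
    refine S.mem_kperp.2 fun i => ?_
    fin_cases i
    · refine S.kb_eq_zero fun d => ?_
      show polar q (d • u) (j z) = 0
      rw [← hj, hA, S.polar_eq, S.kb_smul_left, e0, mul_zero, map_zero]
    · refine S.kb_eq_zero fun d => ?_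
      show polar q (d • u') (j z) = 0
      rw [← hj, hA', S.polar_eq, S.kb_smul_left, e1, mul_zero, map_zero]
  have h2 := S.two'
  have main : ∀ e ∈ S.kperp ![u, u'], kb q τ e e ≠ 0 →
      (∀ k, A k = A 1 * k) ∧ (∀ k, A' k = A 1 * k) ∧ ∀ k : L, j (k • e) = (A 1 * k) • e := by
    intro e he hee
    have hue : kb q τ u e = 0 := S.mem_kperp.1 he 0
    have hu'e : kb q τ u' e = 0 := S.mem_kperp.1 he 1
    obtain ⟨c, hc⟩ : ∃ c : L → L, ∀ t, c t = -(t * t * kb q τ e e / 2) := ⟨_, fun _ => rfl⟩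
    have hx : ∀ t : L, ∀ k : L, A' (k * c t) = A k * c t ∧ j ((k * t) • e) = (A k * t) • e := by
      intro t k
      obtain ⟨x, hxdef⟩ : ∃ x, x = u + t • e + c t • u' := ⟨_, rfl⟩
      have hxs : kb q τ x x = 0 := by
        simp only [hxdef, hc, S.kb_add_left, S.kb_add_right, S.kb_smul_left, S.kb_smul_right, hu, hu', huu', hue,
          hu'e, S.kb_comm u' u, S.kb_comm e u, S.kb_comm e u']
        field_simp
        ring
      have hxu' : kb q τ x u' = 1 := by
        simp only [hxdef, S.kb_add_left, S.kb_smul_left, huu', hu', S.kb_comm e u', hu'e]; ring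
      have hx0 : x ≠ 0 := fun h => by rw [h, S.kb_zero_left] at hxu'; exact zero_ne_one hxu'
      obtain ⟨l, hl⟩ := mem_line.1 (hlines x hx0 hxs _ (smul_mem_line k x))
      have hexp : j (k • x) = A k • u + j ((k * t) • e) + A' (k * c t) • u' := by
        rw [hxdef, smul_add, smul_add, map_add, map_add, smul_smul, smul_smul, hA, hA']
      have hjN := hN ((k * t) • e) (Submodule.smul_mem _ _ he)
      have hju : kb q τ (j ((k * t) • e)) u = 0 := by rw [S.kb_comm]; exact S.mem_kperp.1 hjN 0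
      have hju' : kb q τ (j ((k * t) • e)) u' = 0 := by rw [S.kb_comm]; exact S.mem_kperp.1 hjN 1
      have e1 := congrArg (fun z => kb q τ z u') (hexp.symm.trans hl.symm)
      simp only [S.kb_add_left, S.kb_smul_left, huu', hu', hxu', hju', mul_zero, mul_one, add_zero] at e1
      have hxu : kb q τ x u = c t := by
        simp only [hxdef, S.kb_add_left, S.kb_smul_left, hu, S.kb_comm e u, hue, S.kb_comm u' u, huu']; ring
      have e2 := congrArg (fun z => kb q τ z u) (hexp.symm.trans hl.symm)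
      simp only [S.kb_add_left, S.kb_smul_left, hu, hxu, hju, S.kb_comm u' u, huu', mul_zero, mul_one, zero_add] at e2
      refine ⟨by rw [e2, e1], ?_⟩
      have e3 := hexp.symm.trans hl.symm
      rw [← e1, e2, ← e1, hxdef, smul_add, smul_add, smul_smul, smul_smul] at e3
      exact add_left_cancel (add_right_cancel e3)
    have hke : ∀ k t : L, A k * t = A 1 * (k * t) := fun k t => by
      have h1 := (hx t k).2
      have h3 := (hx (k * t) 1).2
      rw [one_mul] at h3
      rw [h1] at h3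
      exact smul_left_injective L (fun h => hee (by rw [h, S.kb_zero_left])) h3
    have hAk : ∀ k, A k = A 1 * k := fun k => by
      have := hke k 1
      rwa [mul_one, mul_one] at this
    refine ⟨hAk, fun k => ?_, fun k => ?_⟩
    · have hc1 : c 1 ≠ 0 := by
        rw [hc, neg_ne_zero, one_mul, one_mul]; exact div_ne_zero hee h2
      have h1 := (hx 1 (k / c 1)).1
      rw [div_mul_cancel₀ _ hc1] at h1
      rw [h1, hAk, mul_assoc, div_mul_cancel₀ _ hc1]
    · have h1 := (hx k 1).2
      rwa [one_mul] at h1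
  obtain ⟨a, ha, haa⟩ := S.exists_anisotropic_perp hu hu' huu'
  obtain ⟨hAk, hA'k, hje⟩ := main a ha haa
  have hNall : ∀ z ∈ S.kperp ![u, u'], j z = A 1 • z := by
    intro z hz
    by_cases hzz : kb q τ z z = 0
    swap
    · have := (main z hz hzz).2.2 1
      rwa [one_smul, mul_one] at this
    have h1 := hje 1
    rw [one_smul, mul_one] at h1
    have hcase : kb q τ (z + a) (z + a) ≠ 0 ∨ kb q τ (z - a) (z - a) ≠ 0 := by
      by_contra hc
      push Not at hc
      simp only [S.kb_add_left, S.kb_add_right, S.kb_sub_left, S.kb_sub_right, hzz] at hc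
      refine haa (mul_left_cancel₀ h2 ?_)
      linear_combination hc.1 + hc.2
    rcases hcase with h | h
    · have := (main _ (Submodule.add_mem _ hz ha) h).2.2 1
      rw [one_smul, mul_one, map_add, h1, smul_add] at this
      exact add_right_cancel this
    · have := (main _ (Submodule.sub_mem _ hz ha) h).2.2 1
      rw [one_smul, mul_one, map_sub, h1, smul_sub] at this
      exact sub_left_injective this
  intro x
  obtain ⟨z, hz⟩ : ∃ z, z = x - kb q τ x u' • u - kb q τ x u • u' := ⟨_, rfl⟩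
  have hzN : z ∈ S.kperp ![u, u'] := hz ▸ S.sub_mem_pair hu hu' huu' x
  rw [show x = z + kb q τ x u' • u + kb q τ x u • u' by rw [hz]; abel, map_add, map_add, hNall z hzN, hA, hA',
    hAk (kb q τ x u'), hA'k, smul_add, smul_add, smul_smul, smul_smul]

/-- Some element of `Ω` is not semilinear. -/
theorem Setup.exists_not_semilinear : ∃ g ∈ commutator (O q),
    ¬ ∃ σ : L → L, ∀ (c : L) x, app g (c • x) = σ c • app g x := by
  have := S.finite
  have := S.finiteL
  obtain ⟨u, -, hu0, hu⟩ := S.exists_ksing ⊤ (by rw [finrank_top]; exact S.three_le)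
  have hqu := (S.line_singular hu (self_mem_line (L := L) u)).1
  obtain ⟨C, hC⟩ := (line L u).exists_isCompl
  obtain ⟨a, ha, hau, hqa⟩ : ∃ a ∈ GeomClasses.OrthTools.orth q (line L u), a ∉ line L u ∧ q a = 0 := by
    have h1 := Submodule.finrank_sup_add_finrank_inf_eq (GeomClasses.OrthTools.orth q (line L u)) C
    have h2 := Submodule.finrank_le (GeomClasses.OrthTools.orth q (line L u) ⊔ C)
    have h3 := Submodule.finrank_add_eq_of_isCompl hC
    have h4 := GeomClasses.OrthTools.finrank_orth S.nondeg (line L u)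
    rw [finrank_line hu0] at h3 h4
    rw [Module.finrank_fintype_fun_eq_card] at h2 h3
    obtain ⟨a, ha, ha0, hqa⟩ := GeomClasses.OrthTools.exists_singular S.nondeg
      (GeomClasses.OrthTools.orth q (line L u) ⊓ C) (by have := S.three; have := S.prime.two_le; have := S.nine; omega)
    exact ⟨a, ha.1, fun h => ha0 (Submodule.disjoint_def.1 hC.disjoint a h ha.2), hqa⟩
  rw [GeomClasses.OrthTools.mem_orth] at ha
  have hua : polar q u a = 0 := ha u (self_mem_line u)
  refine ⟨eich q u a, GeomClasses.OrthEich.eich_mem S.nondeg (by have := S.nine; omega) hqu hua, ?_⟩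
  rintro ⟨σ, hσ⟩
  obtain ⟨P, hP⟩ : ∃ P, P = GeomClasses.OrthTools.orth q (Submodule.span F ({u, a} : Set (ι → F))) := ⟨_, rfl⟩
  have hfix : ∀ x ∈ P, app (eich q u a) x = x := fun x hx => by
    rw [hP] at hx
    have h1 := GeomClasses.OrthTools.mem_orth.1 hx u (Submodule.subset_span (by simp))
    have h2 := GeomClasses.OrthTools.mem_orth.1 hx a (Submodule.subset_span (by simp))
    rw [app_eich hqu hua, polar_comm, h1, polar_comm, h2]
    simp
  have hPfin : Fintype.card ι ≤ finrank F P + 2 := by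
    rw [hP, GeomClasses.OrthTools.finrank_orth S.nondeg]
    have := GeomClasses.OrthEich.finrank_pair_le (F := F) u a
    omega
  have hσ1 : ∀ k : L, σ k = k := by
    intro k
    rcases eq_or_ne k 0 with rfl | hk
    · obtain ⟨x, hx⟩ : ∃ x : ι → F, x ≠ 0 := ⟨u, hu0⟩
      have h1 := hσ 0 x
      rw [zero_smul, map_zero, eq_comm, smul_eq_zero] at h1
      exact h1.resolve_right fun h => hx (app_injective _ (h.trans (map_zero _).symm))
    obtain ⟨f, hf⟩ : ∃ f, f = ((LinearMap.lsmul L (ι → F) k).restrictScalars F) := ⟨_, rfl⟩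
    have hinj : Function.Injective f := fun x y h => by
      rw [hf] at h
      exact smul_right_injective _ hk h
    obtain ⟨x, hx, hx0⟩ := Submodule.exists_mem_ne_zero_of_ne_bot (p := P ⊓ P.map f) (fun h => by
      have h1 := Submodule.finrank_sup_add_finrank_inf_eq P (P.map f)
      have h2 := Submodule.finrank_le (P ⊔ P.map f)
      rw [h, finrank_bot, ← (Submodule.equivMapOfInjective f hinj P).finrank_eq] at h1
      rw [Module.finrank_fintype_fun_eq_card] at h2
      have := S.nine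
      omega)
    obtain ⟨x', hx', rfl⟩ := hx.2
    have hx'0 : x' ≠ 0 := fun h => hx0 (by rw [h, map_zero])
    have h1 := hσ k x'
    rw [hfix x' hx'] at h1
    have h2 := hfix _ hx.1
    rw [hf] at h2
    change app (eich q u a) (k • x') = k • x' at h2
    exact smul_left_injective L hx'0 (h1.symm.trans h2)
  obtain ⟨w, hw⟩ := exists_polar_eq_one S.nondeg hu0
  obtain ⟨D, hD⟩ : ∃ D, D = app (eich q u a) w - w := ⟨_, rfl⟩
  have hsub : ∀ x, app (eich q u a) x - x ∈ Submodule.span F ({u, a} : Set (ι → F)) := fun x => by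
    rw [app_eich hqu hua, add_assoc, add_sub_cancel_left]
    exact Submodule.mem_span_pair.2 ⟨_, _, add_comm _ _⟩
  have hle : line L D ≤ Submodule.span F ({u, a} : Set (ι → F)) := fun x hx => by
    obtain ⟨k, rfl⟩ := mem_line.1 hx
    have h1 := hsub (k • w)
    rwa [hσ, hσ1, ← smul_sub, ← hD] at h1
  obtain ⟨t, ht⟩ : ∃ t : F, D = a + t • u := by
    refine ⟨-polar q w a - q a * polar q w u, ?_⟩
    rw [hD, app_eich hqu hua, polar_comm (f := ⇑q) w u, hw, one_smul]
    abel
  have hD0 : D ≠ 0 := fun h => hau (by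
    rw [ht, add_eq_zero_iff_eq_neg] at h
    rw [h]
    exact Submodule.neg_mem _ (Submodule.smul_mem _ _ (self_mem_line u)))
  have h2 : finrank F ↥(Submodule.span F ({u, a} : Set (ι → F))) ≤ 2 := GeomClasses.OrthEich.finrank_pair_le u a
  have h3 := S.prime.two_le
  have heq := Submodule.eq_of_le_of_finrank_le hle (by rw [finrank_line hD0]; omega)
  have hu_mem : u ∈ line L D := heq ▸ Submodule.subset_span (by simp)
  obtain ⟨k, hk⟩ := mem_line.1 hu_mem
  have hk0 : k ≠ 0 := fun h => hu0 (by rw [← hk, h, zero_smul])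
  refine hau ?_
  have hDu : D ∈ line L u := mem_line.2 ⟨k⁻¹, by rw [← hk, inv_smul_smul₀ hk0]⟩
  have h4 := Submodule.sub_mem _ hDu (Submodule.smul_mem (line L u) t (self_mem_line u))
  rwa [ht, add_sub_cancel_right] at h4

end

/-- The normaliser of a field of self-adjoint matrices is maximal, given generation from one moved line. -/
theorem maximal_field_aux.{v} {F : Type v} [Field F] [Fintype F] {Q : (ι → F) → F} (hn : 9 ≤ Fintype.card ι)
    (hQ : Cfsg.Geo.IsNondegenerateQuadraticForm Q) (hodd : Odd (Fintype.card F)) {r : ℕ} (hr : r.Prime)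
    (K : Subalgebra F (Matrix ι ι F)) (hK : Cfsg.Geo.IsFieldSubalgebra r K)
    (hs : ∀ s, r * s = Fintype.card ι → 3 ≤ s)
    (hsa : Cfsg.Geo.IsSelfAdjointFor (QuadraticMap.polar Q) K)
    (key : ∀ (L : Type v) [Field L] [Fintype L] [Algebra F L] [Module L (ι → F)] [IsScalarTower F L (ι → F)]
      (τ : L →ₗ[F] F) (_ : Setup (quadOf hQ) τ), finrank F L = r → ∀ M : Subgroup (O (quadOf hQ)),
      HasLin L M → M ≤ commutator (O (quadOf hQ)) → ∀ g ∈ M, ∀ u : ι → F, u ≠ 0 →
      kb (quadOf hQ) τ u u = 0 → (∀ a : ι → F, img g (line L u) ≠ line L a) → commutator (O (quadOf hQ)) ≤ M) :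
    Cfsg.Geo.IsMaximalIn (Cfsg.Geo.omegaGL Q) (Cfsg.Geo.subalgebraNormalizer K ⊓ Cfsg.Geo.omegaGL Q) := by
  classical
  have : Nonempty ι := Fintype.card_pos_iff.1 (by omega)
  refine GeomClasses.OrthPair.maximal_transport hQ ?_
  have hq := GeomClasses.OrthTools.quadOf_nondegenerate hQ
  set q := quadOf hQ with hqdef
  have hQq : ∀ v, Q v = q v := fun v => (congrFun (quadOf_coe hQ) v).symm
  have hpol : ∀ x y, QuadraticMap.polar Q x y = polar q x y := fun x y => by
    simp only [QuadraticMap.polar, hQq]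
  letI : Field K := Geo.FieldTransvection.fieldOf hK
  haveI : Fintype K := Fintype.ofFinite K
  have hsmul : ∀ (a : K) (w : ι → F), a • w = (a : Matrix ι ι F) *ᵥ w := fun a w => rfl
  have hfin : finrank F K = r := hK.finrank_eq
  obtain ⟨τ, hτ⟩ : ∃ τ : K →ₗ[F] F, τ 1 = 1 := by
    obtain ⟨f, hf, -⟩ := (⊥ : Submodule F K).exists_le_ker_of_notMem (v := (1 : K)) (by simp)
    exact ⟨(f 1)⁻¹ • f, by simp [hf]⟩
  have h2 : (2 : F) ≠ 0 := by
    intro h
    have : CharP F 2 := CharTwo.of_one_ne_zero_of_two_eq_zero one_ne_zero h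
    have h1 := FiniteField.even_card_iff_char_two.1 (ringChar.eq F 2)
    obtain ⟨k, hk⟩ := hodd
    omega
  haveI : Module.Free K (ι → F) := Module.Free.of_divisionRing K (ι → F)
  have hdvd : r * finrank K (ι → F) = Fintype.card ι := by
    rw [← hfin, Module.finrank_mul_finrank, Module.finrank_fintype_fun_eq_card]
  have S : Setup q τ :=
    { nondeg := hq, two := h2, one := hτ
      adj := fun c x y => by rw [← hpol, ← hpol, hsmul, hsmul]; exact hsa c c.2 x y
      prime := hfin ▸ hr
      three := by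
        rw [hfin, ← hdvd, mul_comm 3]
        exact Nat.mul_le_mul_left _ (hs _ hdvd)
      nine := by omega }
  have hmv : ∀ (g : O q) x, app g x = ((g : GL ι F) : Matrix ι ι F) *ᵥ x := fun g x => app_apply g x
  have hconj : ∀ (g : O q) (k : Matrix ι ι F) (x : ι → F),
      (((g : GL ι F) : Matrix ι ι F) * k * (((g : GL ι F)⁻¹ : GL ι F) : Matrix ι ι F)) *ᵥ x =
        app g (k *ᵥ app g⁻¹ x) := fun g k x => by
    rw [hmv, hmv, Matrix.mulVec_mulVec, Matrix.mulVec_mulVec, mul_assoc, mul_assoc]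
    rfl
  have hN : ∀ g : O q, (∀ k ∈ K, (((g : GL ι F) : Matrix ι ι F) * k *
      (((g : GL ι F)⁻¹ : GL ι F) : Matrix ι ι F)) ∈ K) → (g : GL ι F) ∈ Cfsg.Geo.subalgebraNormalizer K := by
    intro g h k
    refine ⟨h k, fun hk => ?_⟩
    obtain ⟨G, hG⟩ : ∃ G : GL ι F, G = g := ⟨_, rfl⟩
    rw [← hG] at h hk
    let c : K → K := fun z => ⟨_, h z z.2⟩
    have hc : Function.Injective c := fun a b hab => by
      have h1 := congrArg Subtype.val hab
      exact Subtype.ext (G.isUnit.mul_left_cancel (G⁻¹.isUnit.mul_right_cancel h1))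
    obtain ⟨z, hz⟩ := Finite.injective_iff_surjective.1 hc ⟨_, hk⟩
    have h1 := congrArg Subtype.val hz
    have : (z : Matrix ι ι F) = k := G.isUnit.mul_left_cancel (G⁻¹.isUnit.mul_right_cancel h1)
    exact this ▸ z.2
  refine ⟨lt_of_le_of_ne inf_le_right fun e => ?_, fun M h1 h2 => ?_⟩
  · obtain ⟨g, hg, hns⟩ := S.exists_not_semilinear
    have hgN : (g : GL ι F) ∈ Cfsg.Geo.subalgebraNormalizer K := by
      have h := hg
      rw [← e] at h
      exact h.1
    refine hns ⟨fun c => ⟨_, (hgN c).1 c.2⟩, fun c x => ?_⟩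
    rw [hsmul, hsmul, hconj, app_inv_app]
  by_cases hM : M ≤ (Cfsg.Geo.subalgebraNormalizer K).comap (O q).subtype
  · exact Or.inl (le_antisymm (le_inf hM h2) h1)
  refine Or.inr (le_antisymm h2 ?_)
  have hlin : HasLin K M := fun g hg hgl => h1 ⟨hN g fun k hk => by
    have e : ((g : GL ι F) : Matrix ι ι F) * k * (((g : GL ι F)⁻¹ : GL ι F) : Matrix ι ι F) = k := by
      refine Matrix.ext_of_mulVec_single fun i => ?_
      rw [hconj, ← hsmul ⟨k, hk⟩, hgl, app_app_inv, hsmul]
    rw [e]; exact hk, hg⟩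
  obtain ⟨g, hg, u, hu0, hu, hb⟩ : ∃ g ∈ M, ∃ u, u ≠ 0 ∧ kb q τ u u = 0 ∧
      ∀ a, img g (line K u) ≠ line K a := by
    by_contra hc
    push Not at hc
    refine hM fun g hg => hN g fun k hk => ?_
    obtain ⟨j, hj⟩ : ∃ j : (ι → F) →ₗ[F] (ι → F), ∀ x, j x = app g (k *ᵥ app g⁻¹ x) :=
      ⟨(app g).comp (k.mulVecLin.comp (app g⁻¹)), fun x => rfl⟩
    obtain ⟨α, hα⟩ := S.scalar_of_lines j (fun x y => by
      rw [hj, hj, ← app_app_inv g y, polar_app, app_inv_app, ← hsmul ⟨k, hk⟩, S.adj,
        hsmul, ← polar_app g, app_app_inv]) (fun t ht0 ht x hx => by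
      obtain ⟨a, ha⟩ := hc g⁻¹ (M.inv_mem hg) t ht0 ht
      have h4 : app g⁻¹ x ∈ line K a := ha ▸ app_mem_img hx
      obtain ⟨l, hl⟩ := mem_line.1 h4
      have h5 : k *ᵥ app g⁻¹ x ∈ line K a := by
        rw [← hl, ← hsmul ⟨k, hk⟩, smul_smul]
        exact smul_mem_line _ a
      rw [← ha, mem_img, inv_inv] at h5
      rwa [hj])
    have e : ((g : GL ι F) : Matrix ι ι F) * k * (((g : GL ι F)⁻¹ : GL ι F) : Matrix ι ι F) = (α : Matrix ι ι F) := by
      refine Matrix.ext_of_mulVec_single fun i => ?_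
      rw [hconj, ← hj, hα, hsmul]
    rw [e]
    exact α.2
  exact key K τ S hfin M hlin h2 g hg u hu0 hu hb

/-- The normaliser of a field of self-adjoint matrices is maximal. -/
theorem maximal_field {Q : (ι → F) → F} (hn : 10 ≤ Fintype.card ι)
    (hQ : Cfsg.Geo.IsNondegenerateQuadraticForm Q) (hodd : Odd (Fintype.card F)) {r : ℕ} (hr : r.Prime)
    (K : Subalgebra F (Matrix ι ι F)) (hK : Cfsg.Geo.IsFieldSubalgebra r K)
    (hs : ∀ s, r * s = Fintype.card ι → 4 ≤ s)
    (hsa : Cfsg.Geo.IsSelfAdjointFor (QuadraticMap.polar Q) K) :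
    Cfsg.Geo.IsMaximalIn (Cfsg.Geo.omegaGL Q) (Cfsg.Geo.subalgebraNormalizer K ⊓ Cfsg.Geo.omegaGL Q) :=
  maximal_field_aux (by omega) hQ hodd hr K hK (fun s h => (Nat.le_succ 3).trans (hs s h)) hsa
    fun L _ _ _ _ _ τ S hfin M hlin _ g hg u hu0 hu hb => by
      have hdvd : r * finrank L (ι → F) = Fintype.card ι := hfin ▸ S.card_eq
      have : Wide F ι L :=
        ⟨by rw [hfin, ← hdvd, mul_comm 4]; exact Nat.mul_le_mul_left _ (hs _ hdvd), hn⟩
      exact S.commutator_le hlin hg hu0 hu hb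

end CfsgLib.ExtFieldOrth
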