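import Cfsg.Agent.Lib.ExtFieldOrth.Climb

/-!
From a moved line meeting a line in a hyperplane: an element fixing a line pointwise and acting on its
orthogonal space as a root element.
-/

set_option autoImplicit false
set_option linter.unusedSectionVars false

namespace CfsgLib.ExtFieldOrth

open Matrix QuadraticMap Module CfsgLib.Orth
open scoped commutatorElement

variable {F : Type*} [Field F] [Fintype F] {ι : Type} [Fintype ι] [DecidableEq ι]
  {L : Type*} [Field L] [Fintype L] [Algebra F L] [Module L (ι → F)] [IsScalarTower F L (ι → F)]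
  {q : QuadraticForm F (ι → F)} {τ : L →ₗ[F] F}

/-- Orthogonal to a subspace. -/
def Perp (q : QuadraticForm F (ι → F)) (E : Submodule F (ι → F)) (x : ι → F) : Prop :=
  ∀ e ∈ E, polar q e x = 0

theorem Perp.app {E : Submodule F (ι → F)} {x : ι → F} (hx : Perp q E x) {g : O q}
    (hg : ∀ e ∈ E, app g e = e) : Perp q E (app g x) := fun e he => by
  rw [← hg e he, polar_app]; exact hx e he

theorem Perp.add {E : Submodule F (ι → F)} {x y : ι → F} (hx : Perp q E x) (hy : Perp q E y) :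
    Perp q E (x + y) := fun e he => by rw [polar_add_right, hx e he, hy e he, add_zero]

theorem Perp.smul {E : Submodule F (ι → F)} {x : ι → F} (hx : Perp q E x) (t : F) :
    Perp q E (t • x) := fun e he => by rw [polar_smul_right, hx e he, smul_zero]

/-- The isometries which agree, modulo `E` on the orthogonal space of `E`, with members of `M`. -/
def Gp (M : Subgroup (O q)) (E : Submodule F (ι → F)) : Subgroup (O q) where
  carrier := {g | (∀ e ∈ E, app g e = e) ∧
    ∃ l ∈ M, (∀ e ∈ E, app l e = e) ∧ ∀ x, Perp q E x → app l x - app g x ∈ E}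
  one_mem' := ⟨fun e _ => app_one e, 1, M.one_mem, fun e _ => app_one e, fun x _ => by rw [sub_self]; exact E.zero_mem⟩
  mul_mem' := by
    rintro g₁ g₂ ⟨h₁, l₁, hl₁, hl₁e, hd₁⟩ ⟨h₂, l₂, hl₂, hl₂e, hd₂⟩
    refine ⟨fun e he => by rw [app_mul, h₂ e he, h₁ e he], l₁ * l₂, M.mul_mem hl₁ hl₂,
      fun e he => by rw [app_mul, hl₂e e he, hl₁e e he], fun x hx => ?_⟩
    have h3 := hl₁e _ (hd₂ x hx)
    rw [map_sub] at h3
    have := E.add_mem (hd₂ x hx) (hd₁ _ (hx.app h₂))
    rw [← h3] at this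
    rwa [sub_add_sub_cancel, ← app_mul, ← app_mul] at this
  inv_mem' := by
    rintro g ⟨h, l, hl, hle, hd⟩
    have hi : ∀ e ∈ E, app g⁻¹ e = e := fun e he => by
      conv_lhs => rw [← h e he]
      rw [app_inv_app]
    have hli : ∀ e ∈ E, app l⁻¹ e = e := fun e he => by
      conv_lhs => rw [← hle e he]
      rw [app_inv_app]
    refine ⟨hi, l⁻¹, M.inv_mem hl, hli, fun x hx => ?_⟩
    have h1 := hd _ (hx.app hi)
    rw [app_app_inv] at h1
    have h2 := hli _ h1
    rw [map_sub, app_inv_app] at h2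
    rw [← neg_sub]
    exact E.neg_mem (h2 ▸ h1)

theorem mem_gp {M : Subgroup (O q)} {E : Submodule F (ι → F)} {g : O q} :
    g ∈ Gp M E ↔ (∀ e ∈ E, app g e = e) ∧
      ∃ l ∈ M, (∀ e ∈ E, app l e = e) ∧ ∀ x, Perp q E x → app l x - app g x ∈ E :=
  Iff.rfl

/-- All root elements with centre `t` are, modulo `E`, in `M`. -/
def FullE (M : Subgroup (O q)) (E : Submodule F (ι → F)) (t : ι → F) : Prop :=
  q t = 0 ∧ Perp q E t ∧ ∀ a, Perp q E a → polar q t a = 0 → eich q t a ∈ Gp M E

theorem FullE.conj_gp {M : Subgroup (O q)} {E : Submodule F (ι → F)} {t : ι → F} (ht : FullE M E t) {g : O q}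
    (hg : g ∈ Gp M E) : FullE M E (app g t) := by
  refine ⟨by rw [Q_app, ht.1], ht.2.1.app hg.1, fun a ha hta => ?_⟩
  have hta' : polar q t (app g⁻¹ a) = 0 := by rwa [← polar_app g, app_app_inv]
  have := (Gp M E).mul_mem ((Gp M E).mul_mem hg (ht.2.2 _ (ha.app ((Gp M E).inv_mem hg).1) hta'))
    ((Gp M E).inv_mem hg)
  rwa [eich_conj ht.1 hta', app_app_inv] at this

theorem FullE.smul {M : Subgroup (O q)} {E : Submodule F (ι → F)} {t : ι → F} (ht : FullE M E t) {k : F}
    (hk : k ≠ 0) : FullE M E (k • t) := by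
  refine ⟨by rw [QuadraticMap.map_smul, ht.1, smul_zero], ht.2.1.smul k, fun a ha hta => ?_⟩
  rw [polar_smul_left, smul_eq_mul] at hta
  have hta' := (mul_eq_zero.1 hta).resolve_left hk
  have e : eich q (k • t) a = eich q t (k • a) := by
    refine ext_app fun x => ?_
    rw [app_eich (by rw [QuadraticMap.map_smul, ht.1, smul_zero]) (by rw [polar_smul_left, hta', smul_zero]),
      app_eich ht.1 (by rw [polar_smul_right, hta', smul_zero]), polar_smul_right, polar_smul_right,
      QuadraticMap.map_smul]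
    simp only [smul_eq_mul]
    match_scalars <;> ring
  rw [e]
  exact ht.2.2 _ (ha.smul k) (by rw [polar_smul_right, hta', smul_zero])

theorem FullE.step {M : Subgroup (O q)} {E : Submodule F (ι → F)} {u x y : ι → F} (hu : FullE M E u)
    (hx : FullE M E x) (hy : q y = 0) (hyE : Perp q E y) (hxu : polar q x u ≠ 0) (hyu : polar q y u ≠ 0) :
    FullE M E y := by
  obtain ⟨x', hx'def⟩ : ∃ x', x' = (polar q x u)⁻¹ • x := ⟨_, rfl⟩
  obtain ⟨y', hy'def⟩ : ∃ y', y' = (polar q y u)⁻¹ • y := ⟨_, rfl⟩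
  have hxu' : polar q x' u = 1 := by rw [hx'def, polar_smul_left, smul_eq_mul, inv_mul_cancel₀ hxu]
  have hyu' : polar q y' u = 1 := by rw [hy'def, polar_smul_left, smul_eq_mul, inv_mul_cancel₀ hyu]
  have hqx : q x' = 0 := by rw [hx'def, QuadraticMap.map_smul, hx.1, smul_zero]
  have hqy : q y' = 0 := by rw [hy'def, QuadraticMap.map_smul, hy, smul_zero]
  have h1 : polar q u (y' - x') = 0 := by
    rw [polar_sub_right, polar_comm (f := ⇑q) u y', polar_comm (f := ⇑q) u x', hxu', hyu', sub_self]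
  have hPy : Perp q E y' := hy'def ▸ hyE.smul _
  have hPx : Perp q E x' := hx'def ▸ hx.2.1.smul _
  have hsub : Perp q E (y' - x') := by
    rw [sub_eq_add_neg, ← neg_one_smul F x']
    exact hPy.add (hPx.smul _)
  have h2 : app (eich q u (y' - x')) x' = y' := by
    have hQ : q (y' - x') = -polar q x' y' := by
      rw [sub_eq_add_neg y' x', QuadraticMap.map_add ⇑q, QuadraticMap.map_neg, polar_neg_right,
        polar_comm (f := ⇑q) y' x', hqx, hqy]
      ring
    rw [app_eich hu.1 h1, hxu', hQ, polar_sub_right, polar_self', hqx]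
    simp
  have h3 := (hx'def ▸ hx.smul (inv_ne_zero hxu) : FullE M E x').conj_gp (hu.2.2 _ hsub h1)
  rw [h2, hy'def] at h3
  have h4 := h3.smul hyu
  rwa [smul_inv_smul₀ hyu] at h4

variable (S : Setup q τ)
include S

/-- Two non-orthogonal centres give all of them. -/
theorem Setup.fullE_all {M : Subgroup (O q)} {E : Submodule F (ι → F)} (hE : ∀ e ∈ E, q e = 0)
    {z z' : ι → F} (hz : FullE M E z) (hz' : FullE M E z') (hzz : polar q z z' ≠ 0) {t : ι → F}
    (ht : q t = 0) (htE : Perp q E t) (htn : t ∉ E) : FullE M E t := by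
  by_cases h1 : polar q t z = 0
  swap
  · exact hz.step hz' ht htE (by rwa [polar_comm]) h1
  by_cases h2 : polar q t z' = 0
  swap
  · exact hz'.step hz ht htE hzz h2
  have hEE : ∀ a ∈ E, ∀ b ∈ E, polar q a b = 0 := fun a ha b hb => by
    simp [QuadraticMap.polar, hE a ha, hE b hb, hE _ (E.add_mem ha hb)]
  have htX : t ∉ E ⊔ Submodule.span F ({z, z'} : Set (ι → F)) := fun h => by
    obtain ⟨e, he, s, hs, rfl⟩ := Submodule.mem_sup.1 h
    obtain ⟨a, b, rfl⟩ := Submodule.mem_span_pair.1 hs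
    rw [polar_add_left, hz.2.1 e he, polar_add_left, polar_smul_left, polar_smul_left, polar_self', hz.1,
      mul_zero, smul_zero, zero_add, zero_add, smul_eq_mul, polar_comm (f := ⇑q) z' z] at h1
    rw [polar_add_left, hz'.2.1 e he, polar_add_left, polar_smul_left, polar_smul_left, polar_self', hz'.1,
      mul_zero, smul_zero, zero_add, add_zero, smul_eq_mul] at h2
    rw [(mul_eq_zero.1 h1).resolve_right hzz, (mul_eq_zero.1 h2).resolve_right hzz, zero_smul, zero_smul,
      add_zero, add_zero] at htn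
    exact htn he
  obtain ⟨w, hw, hwt⟩ : ∃ w, w ∈ GeomClasses.OrthTools.orth q (E ⊔ Submodule.span F ({z, z'} : Set (ι → F))) ∧
      polar q w t ≠ 0 := S.exists_orth_pairing htX
  rw [GeomClasses.OrthTools.mem_orth] at hw
  have hwE : Perp q E w := fun e he => hw e (Submodule.mem_sup_left he)
  have hwz : polar q z w = 0 := hw z (Submodule.mem_sup_right (Submodule.subset_span (by simp)))
  have hwz' : polar q z' w = 0 := hw z' (Submodule.mem_sup_right (Submodule.subset_span (by simp)))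
  obtain ⟨i, hi⟩ : ∃ i, i = z' + (w + (-(q w / polar q z z')) • z) := ⟨_, rfl⟩
  have hiE : Perp q E i := hi ▸ hz'.2.1.add (hwE.add (hz.2.1.smul _))
  have hiz : polar q i z = polar q z z' := by
    rw [hi, polar_add_left, polar_add_left, polar_smul_left, polar_self', hz.1, polar_comm (f := ⇑q) w z, hwz,
      polar_comm (f := ⇑q) z' z]
    simp
  have hqi : q i = 0 := by
    rw [hi, QuadraticMap.map_add ⇑q, QuadraticMap.map_add ⇑q w, QuadraticMap.map_smul, hz.1, hz'.1,
      polar_add_right, polar_smul_right, polar_smul_right, hwz', polar_comm (f := ⇑q) w z, hwz,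
      polar_comm (f := ⇑q) z' z]
    simp only [smul_eq_mul]
    field_simp
    ring
  have hit : polar q i t ≠ 0 := by
    rwa [hi, polar_add_left, polar_add_left, polar_smul_left, polar_comm (f := ⇑q) z' t, h2,
      polar_comm (f := ⇑q) z t, h1, smul_zero, add_zero, zero_add]
  have hFi : FullE M E i := hz.step hz' hqi hiE (by rwa [polar_comm]) (by rwa [hiz])
  exact hFi.step hz ht htE (by rwa [polar_comm, hiz]) (by rwa [polar_comm])

theorem Setup.line_singular {y : ι → F} (hy : kb q τ y y = 0) {x : ι → F} (hx : x ∈ line L y) :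
    q x = 0 ∧ kb q τ y x = 0 := by
  obtain ⟨k, rfl⟩ := mem_line.1 hx
  exact ⟨S.q_eq_zero (by rw [S.kb_smul_left, S.kb_smul_right, hy, mul_zero, mul_zero]),
    by rw [S.kb_smul_right, hy, mul_zero]⟩

theorem Setup.perp_line {y x : ι → F} : Perp q (line L y) x ↔ kb q τ y x = 0 := by
  refine ⟨fun h => S.kb_eq_zero fun d => h _ (smul_mem_line d y), fun h e he => ?_⟩
  obtain ⟨k, rfl⟩ := mem_line.1 he
  rw [S.polar_eq, S.kb_smul_left, h, mul_zero, map_zero]

theorem Setup.hyper_eq_sup {y : ι → F} (hy0 : y ≠ 0) {E : Submodule F (ι → F)} (hEy : E ≤ line L y)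
    (hyE : y ∉ E) (hfin : finrank F E + 1 = finrank F L) : line L y = E ⊔ Submodule.span F {y} :=
  (Submodule.eq_of_le_of_finrank_eq (sup_le hEy ((Submodule.span_singleton_le_iff_mem _ _).2 (self_mem_line y)))
    (by rw [finrank_sup_one hyE, hfin, finrank_line hy0])).symm

/-- The isotropic vector outside the hyperplane is a centre. -/
theorem Setup.fullE_gen {M : Subgroup (O q)} (hM : HasLin L M) {y : ι → F} (hy0 : y ≠ 0) (hy : kb q τ y y = 0)
    {E : Submodule F (ι → F)} (hEy : E ≤ line L y) (hyE : y ∉ E) (hfin : finrank F E + 1 = finrank F L) :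
    FullE M E y := by
  have := S.finite
  have hEs : ∀ e ∈ E, kb q τ y e = 0 := fun e he => (S.line_singular hy (hEy he)).2
  have hPy : Perp q E y := fun e he => by
    rw [S.polar_eq, S.kb_comm, hEs e he, map_zero]
  refine ⟨S.q_eq_zero hy, hPy, fun a ha hya => ?_⟩
  obtain ⟨ev, hev⟩ : ∃ ev, ev = (LinearMap.toSpanSingleton L (ι → F) y).restrictScalars F := ⟨_, rfl⟩
  have heva : ∀ d : L, ev d = d • y := fun d => by rw [hev]; rfl
  obtain ⟨Z, hZ⟩ : ∃ Z, Z = E.comap ev := ⟨_, rfl⟩
  have hZfin : finrank F Z = finrank F E := by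
    have hinj : Function.Injective ev := fun a b h => by
      rw [heva, heva] at h
      exact smul_left_injective L hy0 h
    rw [hZ, (Submodule.equivMapOfInjective ev hinj (E.comap ev)).finrank_eq, Submodule.map_comap_eq_of_le]
    intro e he
    obtain ⟨k, hk⟩ := mem_line.1 (hEy he)
    exact ⟨k, by rw [heva, hk]⟩
  have h1Z : (1 : L) ∉ Z := fun h => hyE (by rw [hZ, Submodule.mem_comap, heva, one_smul] at h; exact h)
  obtain ⟨f, hf, hfZ⟩ := Z.exists_le_ker_of_notMem h1Z
  obtain ⟨φ, hφ⟩ : ∃ φ, φ = (f 1)⁻¹ • f := ⟨_, rfl⟩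
  have hφ1 : φ 1 = 1 := by rw [hφ, LinearMap.smul_apply, smul_eq_mul, inv_mul_cancel₀ hf]
  have hker : LinearMap.ker φ = Z := by
    symm
    refine Submodule.eq_of_le_of_finrank_eq (fun z hz => ?_) ?_
    · rw [LinearMap.mem_ker, hφ, LinearMap.smul_apply, LinearMap.mem_ker.1 (hfZ hz), smul_zero]
    · have h1 := LinearMap.finrank_range_add_finrank_ker φ
      have h2 : LinearMap.range φ = ⊤ := LinearMap.range_eq_top.2 fun t => ⟨t • 1, by simp [hφ1]⟩
      rw [h2, finrank_top, Module.finrank_self] at h1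
      omega
  obtain ⟨κ, hκ⟩ := S.dmap_surjective φ
  have hκ' : ∀ d, τ (d * κ) = φ d := fun d => LinearMap.congr_fun hκ d
  have hκ0 : κ ≠ 0 := fun h => by
    have := hκ' 1
    rw [hφ1, h, mul_zero, map_zero] at this
    exact zero_ne_one this
  have key : ∀ x, Perp q E x → kb q τ x y = algebraMap F L (polar q x y) * κ := fun x hx => by
    refine S.kb_unique fun d => ?_
    rw [← mul_assoc, mul_comm d, mul_assoc, ← Algebra.smul_def, map_smul, hκ', smul_eq_mul]
    have hd : d - φ d • 1 ∈ Z := by rw [← hker, LinearMap.mem_ker, map_sub, map_smul, hφ1]; simp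
    rw [hZ, Submodule.mem_comap, heva, sub_smul, smul_assoc, one_smul] at hd
    have h3 := hx _ hd
    rw [polar_sub_left, polar_smul_left, smul_eq_mul, sub_eq_zero] at h3
    rw [S.adj, polar_comm (f := ⇑q) x (d • y), h3, polar_comm (f := ⇑q) y x, mul_comm]
  have hya' : kb q τ y a = 0 := by
    rw [S.kb_comm, key a ha, polar_comm, hya, map_zero, zero_mul]
  have hyv : kb q τ y (κ⁻¹ • a) = 0 := by rw [S.kb_smul_right, hya', mul_zero]
  refine ⟨fun e he => ?_, S.kT hy hyv, S.kT_mem hM hy hyv, fun e he => ?_, fun x hx => ?_⟩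
  · rw [app_eich (S.q_eq_zero hy) hya, polar_comm, S.polar_eq, hEs e he, map_zero, ha e he]
    simp
  · obtain ⟨k, rfl⟩ := mem_line.1 (hEy he)
    exact S.kT_fix hy hyv (by rw [S.kb_smul_right, hy, mul_zero])
      (by rw [S.kb_smul_left, S.kb_smul_right, S.kb_comm a y, hya', mul_zero, mul_zero])
  · rw [S.app_kT, app_eich (S.q_eq_zero hy) hya, key x hx, S.kb_smul_right, S.kb_smul_left, S.kb_smul_right]
    obtain ⟨k, hk⟩ : ∃ k, k = κ⁻¹ * kb q τ x a +
        κ⁻¹ * (κ⁻¹ * kb q τ a a) / 2 * (algebraMap F L (polar q x y) * κ) := ⟨_, rfl⟩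
    obtain ⟨t, ht⟩ : ∃ t, t = -polar q x a - q a * polar q x y := ⟨_, rfl⟩
    have hzero : (k + algebraMap F L t) • y ∈ E := by
      rw [← heva, ← Submodule.mem_comap, ← hZ, ← hker, LinearMap.mem_ker, ← hκ', add_mul, map_add,
        ← Algebra.smul_def, map_smul]
      have e1 : k * κ = kb q τ x a + algebraMap F L (polar q x y) * (kb q τ a a / 2) := by
        rw [hk]
        have := S.two'
        field_simp
        try ring
      haveI : NeZero (2 : L) := ⟨S.two'⟩
      have h2 : τ (kb q τ a a / 2) = q a := by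
        have h3 : τ (kb q τ a a / 2) + τ (kb q τ a a / 2) = 2 * q a := by
          rw [← map_add, add_halves, S.two_q]
        rw [← two_mul] at h3
        exact mul_left_cancel₀ S.two h3
      rw [e1, map_add, ← Algebra.smul_def, map_smul, h2, ← S.polar_eq, show τ κ = 1 by rw [← one_mul κ, hκ', hφ1],
        ht]
      simp only [smul_eq_mul, mul_one]
      ring
    rw [← hk, ← ht, smul_smul, mul_assoc, mul_inv_cancel₀ hκ0, mul_one, algebraMap_smul]
    have := E.neg_mem hzero
    rw [add_smul, algebraMap_smul] at this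
    convert this using 1
    abel

theorem Setup.fullE_img {M : Subgroup (O q)} {E : Submodule F (ι → F)} {t : ι → F} (ht : FullE M E t) {g : O q}
    (hg : g ∈ M) : FullE M (img g E) (app g t) := by
  have hperp : ∀ x, Perp q (img g E) x → Perp q E (app g⁻¹ x) := fun x hx e he => by
    have := hx _ (app_mem_img (g := g) he)
    rwa [← polar_app g, app_app_inv]
  refine ⟨by rw [Q_app, ht.1], fun e he => ?_, fun a ha hta => ?_⟩
  · obtain ⟨e', he', rfl⟩ := he
    rw [polar_app]; exact ht.2.1 e' he'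
  have hta' : polar q t (app g⁻¹ a) = 0 := by rwa [← polar_app g, app_app_inv]
  obtain ⟨h1, l, hl, hle, hd⟩ := ht.2.2 _ (hperp a ha) hta'
  refine ⟨fun e he => ?_, g * l * g⁻¹, M.mul_mem (M.mul_mem hg hl) (M.inv_mem hg), fun e he => ?_, fun x hx => ?_⟩
  · rw [← app_app_inv g a, ← eich_conj ht.1 hta', app_mul, app_mul, h1 _ (mem_img.1 he), app_app_inv]
  · rw [app_mul, app_mul, hle _ (mem_img.1 he), app_app_inv]
  · rw [← app_app_inv g a, ← eich_conj ht.1 hta', app_mul, app_mul, app_mul, app_mul, ← map_sub]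
    exact app_mem_img (hd _ (hperp x hx))

/-- An element of `M` fixing a line pointwise which is, on its orthogonal space, a root element. -/
def Soft (M : Subgroup (O q)) (y : ι → F) : Prop :=
  ∃ w ∈ line L y, w ≠ 0 ∧ ∃ a, q a = 0 ∧ kb q τ y a = 0 ∧ a ∉ line L y ∧
    ∃ g ∈ M, (∀ x ∈ line L y, app g x = x) ∧ ∀ x, kb q τ y x = 0 → app g x = x - polar q x a • w

set_option maxHeartbeats 1000000 in
theorem Setup.soft_of_centres [hW : Wide F ι L] {M : Subgroup (O q)} (hM : HasLin L M) {y : ι → F} (hy0 : y ≠ 0)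
    (hy : kb q τ y y = 0) {E : Submodule F (ι → F)} (hEy : E ≤ line L y) (hyE : y ∉ E)
    (hfin : finrank F E + 1 = finrank F L) {a₁ a₂ : ι → F} (h₁ : FullE M E a₁) (h₂ : FullE M E a₂)
    (h1y : kb q τ y a₁ = 0) (h2y : kb q τ y a₂ = 0) (h12 : polar q a₁ a₂ = 0) (ha₁ : a₁ ∉ line L y)
    (ha₂ : a₂ ∉ line L y ⊔ Submodule.span F {a₁}) {v : ι → F} (hv : kb q τ y v = 0)
    (hv₁ : kb q τ a₁ v • y ∈ E) (hv₂ : kb q τ a₂ v • y ∈ E) (hv0 : kb q τ a₁ v ≠ 0) :
    Soft (L := L) (τ := τ) M y := by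
  have hline := S.hyper_eq_sup hy0 hEy hyE hfin
  have hperp : ∀ x, kb q τ y x = 0 → Perp q E x := fun x hx e he => S.perp_line.2 hx e (hEy he)
  have hpy : ∀ x, kb q τ y x = 0 → polar q x y = 0 := fun x hx => by rw [S.polar_eq, S.kb_comm, hx, map_zero]
  have hfixline : ∀ g : O q, (∀ e ∈ E, app g e = e) → app g y = y → ∀ x ∈ line L y, app g x = x := by
    intro g hg hgy x hx
    rw [hline] at hx
    obtain ⟨e, he, z, hz, rfl⟩ := Submodule.mem_sup.1 hx
    obtain ⟨t, rfl⟩ := Submodule.mem_span_singleton.1 hz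
    rw [map_add, map_smul, hg e he, hgy]
  -- an anisotropic vector orthogonal to everything
  obtain ⟨s, hs, hs0⟩ : ∃ s ∈ GeomClasses.OrthTools.orth q
      (line L y ⊔ (Submodule.span F {a₁} ⊔ Submodule.span F {a₂})), q s ≠ 0 := by
    by_contra hc
    push Not at hc
    have h1 := two_finrank_le S.nondeg hc
    rw [GeomClasses.OrthTools.finrank_orth S.nondeg] at h1
    have h2 := Submodule.finrank_add_le_finrank_add_finrank (line L y) (Submodule.span F {a₁} ⊔ Submodule.span F {a₂})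
    have h3 := Submodule.finrank_add_le_finrank_add_finrank (Submodule.span F {a₁}) (Submodule.span F {a₂})
    have h4 : ∀ a : ι → F, finrank F ↥(Submodule.span F {a}) ≤ 1 := fun a =>
      (finrank_span_le_card ({a} : Set (ι → F))).trans (by simp)
    have h5 := h4 a₁
    have h6 := h4 a₂
    rw [finrank_line hy0] at h2
    have := hW.four
    have := hW.big
    omega
  rw [GeomClasses.OrthTools.mem_orth] at hs
  have hsy : kb q τ y s = 0 := S.kb_eq_zero fun d => hs _ (Submodule.mem_sup_left (smul_mem_line d y))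
  have hs1 : polar q a₁ s = 0 :=
    hs _ (Submodule.mem_sup_right (Submodule.mem_sup_left (Submodule.mem_span_singleton_self _)))
  have hs2 : polar q a₂ s = 0 :=
    hs _ (Submodule.mem_sup_right (Submodule.mem_sup_right (Submodule.mem_span_singleton_self _)))
  obtain ⟨γ₁, hγ₁⟩ : ∃ γ₁, γ₁ = eich q a₁ s := ⟨_, rfl⟩
  obtain ⟨γ₂, hγ₂⟩ : ∃ γ₂, γ₂ = eich q a₂ s := ⟨_, rfl⟩
  obtain ⟨-, l₁, hl₁, hl₁e, hd₁⟩ := h₁.2.2 _ (hperp s hsy) hs1
  obtain ⟨-, l₂, hl₂, hl₂e, hd₂⟩ := h₂.2.2 _ (hperp s hsy) hs2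
  have hfix1 : app (eich q a₁ s) y = y := by
    rw [app_eich h₁.1 hs1, polar_comm, hpy a₁ h1y, polar_comm, hpy s hsy]; simp
  have hfix2 : app (eich q a₂ s) y = y := by
    rw [app_eich h₂.1 hs2, polar_comm, hpy a₂ h2y, polar_comm, hpy s hsy]; simp
  have hPy : Perp q E y := hperp y hy
  obtain ⟨l, hl⟩ : ∃ l, l = ⁅l₁, l₂⁆ := ⟨_, rfl⟩
  have hlM : l ∈ M := by
    rw [hl, commutatorElement_def]
    exact M.mul_mem (M.mul_mem (M.mul_mem hl₁ hl₂) (M.inv_mem hl₁)) (M.inv_mem hl₂)
  have hlE : ∀ e ∈ E, app l e = e := fun e he => by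
    have i1 : app l₁⁻¹ e = e := by conv_lhs => rw [← hl₁e e he, app_inv_app]
    have i2 : app l₂⁻¹ e = e := by conv_lhs => rw [← hl₂e e he, app_inv_app]
    rw [hl, commutatorElement_def, app_mul, app_mul, app_mul, i2, i1, hl₂e e he, hl₁e e he]
  have hly : app l y = y := by
    obtain ⟨e₁, he₁, ey₁⟩ : ∃ e₁ ∈ E, app l₁ y = y + e₁ :=
      ⟨_, by simpa [hfix1] using hd₁ y hPy, by abel⟩
    obtain ⟨e₂, he₂, ey₂⟩ : ∃ e₂ ∈ E, app l₂ y = y + e₂ :=
      ⟨_, by simpa [hfix2] using hd₂ y hPy, by abel⟩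
    have h12 : app (l₁ * l₂) y = app (l₂ * l₁) y := by
      rw [app_mul, app_mul, ey₁, ey₂, map_add, map_add, ey₁, ey₂, hl₁e e₂ he₂, hl₂e e₁ he₁]; abel
    obtain ⟨z, hz⟩ : ∃ z, z = app (l₁⁻¹ * l₂⁻¹) y := ⟨_, rfl⟩
    have hz' : app (l₂ * l₁) z = y := by rw [hz, ← app_mul]; simp [mul_assoc]
    have hzline : z ∈ line L y := by
      rw [hz, app_mul]
      have k2 : app l₂⁻¹ y = y - e₂ := app_injective l₂ (by rw [app_app_inv, map_sub, ey₂, hl₂e e₂ he₂]; abel)
      have k1 : app l₁⁻¹ (y - e₂) = y - e₁ - e₂ :=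
        app_injective l₁ (by rw [app_app_inv, map_sub, map_sub, ey₁, hl₁e e₁ he₁, hl₁e e₂ he₂]; abel)
      rw [k2, k1]
      exact Submodule.sub_mem _ (Submodule.sub_mem _ (self_mem_line y) (hEy he₁)) (hEy he₂)
    rw [hline] at hzline
    obtain ⟨e, he, b, hb, hzeq⟩ := Submodule.mem_sup.1 hzline
    obtain ⟨t, rfl⟩ := Submodule.mem_span_singleton.1 hb
    rw [hl, commutatorElement_def, show l₁ * l₂ * l₁⁻¹ * l₂⁻¹ = l₁ * l₂ * (l₁⁻¹ * l₂⁻¹) by group, app_mul, ← hz]
    have : app (l₁ * l₂) z = app (l₂ * l₁) z := by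
      rw [← hzeq, map_add, map_add, map_smul, map_smul, h12]
      simp only [app_mul, hl₁e _ he, hl₂e _ he]
    rw [this, hz']
  have hlline := hfixline l hlE hly
  obtain ⟨c₀, hc₀⟩ : ∃ c₀, c₀ = -(2 * q s) := ⟨_, rfl⟩
  have hc00 : c₀ ≠ 0 := by rw [hc₀, neg_ne_zero]; exact mul_ne_zero S.two hs0
  have h21 : polar q a₂ (c₀ • a₁) = 0 := by rw [polar_smul_right, polar_comm, h12, smul_zero]
  have hcomm : ⁅eich q a₁ s, eich q a₂ s⁆ = eich q a₂ (c₀ • a₁) := by
    have e1 : app (eich q a₁ s) a₂ = a₂ := by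
      rw [app_eich h₁.1 hs1, polar_comm (f := ⇑q) a₂ a₁, h12, hs2]; simp
    have e2 : app (eich q a₁ s) s = s + c₀ • a₁ := by
      rw [app_eich h₁.1 hs1, polar_comm (f := ⇑q) s a₁, hs1, polar_self', hc₀]; simp
    have e3 : (eich q a₂ s)⁻¹ = eich q a₂ (-s) := by
      refine inv_eq_of_mul_eq_one_right ?_
      rw [eich_add h₂.1 hs2 (by rw [polar_neg_right, hs2, neg_zero]), add_neg_cancel]
      exact ext_app fun x => by rw [app_eich h₂.1 (polar_zero_right ..), app_one, QuadraticMap.map_zero]; simp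
    rw [commutatorElement_def, eich_conj h₂.1 hs2, e1, e2, e3,
      eich_add h₂.1 (by rw [polar_add_right, hs2, h21, add_zero]) (by rw [polar_neg_right, hs2, neg_zero])]
    congr 1
    abel
  obtain ⟨γ, hγ⟩ : ∃ γ, γ = eich q a₂ (c₀ • a₁) := ⟨_, rfl⟩
  have hlγ : ∀ x, Perp q E x → app l x - app γ x ∈ E := by
    have hlift : ∀ (g₁ g₂ : O q) (m₁ m₂ : O q), (∀ e ∈ E, app g₂ e = e) → (∀ e ∈ E, app m₁ e = e) →
        (∀ x, Perp q E x → app m₁ x - app g₁ x ∈ E) → (∀ x, Perp q E x → app m₂ x - app g₂ x ∈ E) →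
        ∀ x, Perp q E x → app (m₁ * m₂) x - app (g₁ * g₂) x ∈ E := by
      intro g₁ g₂ m₁ m₂ hg₂ hm₁ h1 h2 x hx
      have h3 := hm₁ _ (h2 x hx)
      rw [map_sub] at h3
      have := E.add_mem (h2 x hx) (h1 _ (hx.app hg₂))
      rw [← h3] at this
      rwa [sub_add_sub_cancel, ← app_mul, ← app_mul] at this
    have hinv : ∀ (g m : O q), (∀ e ∈ E, app g e = e) → (∀ e ∈ E, app m e = e) →
        (∀ x, Perp q E x → app m x - app g x ∈ E) → (∀ e ∈ E, app g⁻¹ e = e) ∧ (∀ e ∈ E, app m⁻¹ e = e) ∧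
          ∀ x, Perp q E x → app m⁻¹ x - app g⁻¹ x ∈ E := by
      intro g m hg hm h
      have hi : ∀ e ∈ E, app g⁻¹ e = e := fun e he => by conv_lhs => rw [← hg e he, app_inv_app]
      have hmi : ∀ e ∈ E, app m⁻¹ e = e := fun e he => by conv_lhs => rw [← hm e he, app_inv_app]
      refine ⟨hi, hmi, fun x hx => ?_⟩
      have h1 := h _ (hx.app hi)
      rw [app_app_inv] at h1
      have h2 := hmi _ h1
      rw [map_sub, app_inv_app] at h2
      rw [← neg_sub]
      exact E.neg_mem (h2 ▸ h1)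
    have hg1 := (h₁.2.2 _ (hperp s hsy) hs1).1
    have hg2 := (h₂.2.2 _ (hperp s hsy) hs2).1
    obtain ⟨hg1i, hl1i, hd1i⟩ := hinv _ _ hg1 hl₁e hd₁
    obtain ⟨hg2i, hl2i, hd2i⟩ := hinv _ _ hg2 hl₂e hd₂
    intro x hx
    rw [hl, hγ, ← hcomm, commutatorElement_def, commutatorElement_def]
    exact hlift _ _ _ _ hg2i (fun e he => by rw [app_mul, app_mul, hl1i e he, hl₂e e he, hl₁e e he])
      (hlift _ _ _ _ hg1i (fun e he => by rw [app_mul, hl₂e e he, hl₁e e he])
        (hlift _ _ _ _ hg2 hl₁e hd₁ hd₂) hd1i) hd2i x hx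
  -- the first map
  obtain ⟨T, hT⟩ : ∃ T, T = S.kT hy hv := ⟨_, rfl⟩
  have hTx : ∀ x, kb q τ y x = 0 → app T x = x - kb q τ x v • y := fun x hx => by
    rw [hT, S.app_kT, S.kb_comm x y, hx]; simp
  have hTi : ∀ x, kb q τ y x = 0 → app T⁻¹ x = x + kb q τ x v • y := fun x hx => app_injective T (by
    rw [app_app_inv, map_add, hTx x hx, hTx _ (by rw [S.kb_smul_right, hy, mul_zero]), S.kb_smul_left, hv]
    simp)
  have hperp_line : ∀ x, kb q τ y x = 0 → ∀ g : O q, (∀ w ∈ line L y, app g w = w) → kb q τ y (app g x) = 0 := by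
    intro x hx g hg
    refine S.perp_line.1 fun e he => ?_
    rw [← hg e he, polar_app]
    exact S.perp_line.2 hx e he
  have hlinv : ∀ w ∈ line L y, app l⁻¹ w = w := fun w hw => by conv_lhs => rw [← hlline w hw, app_inv_app]
  obtain ⟨g₁, hg₁⟩ : ∃ g₁, g₁ = l * T * l⁻¹ * T⁻¹ := ⟨_, rfl⟩
  have hg₁M : g₁ ∈ M := by
    rw [hg₁, hT]
    exact M.mul_mem (M.mul_mem (M.mul_mem hlM (S.kT_mem hM hy hv)) (M.inv_mem hlM)) (M.inv_mem (S.kT_mem hM hy hv))
  have hTline : ∀ w ∈ line L y, app T w = w := fun w hw => by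
    obtain ⟨k, rfl⟩ := mem_line.1 hw
    rw [hT]
    exact S.kT_fix hy hv (by rw [S.kb_smul_right, hy, mul_zero]) (by rw [S.kb_smul_right, S.kb_comm, hv, mul_zero])
  obtain ⟨ψ, hψ⟩ : ∃ ψ : (ι → F) → ι → F, ∀ x, ψ x =
      (c₀ • (polar q x a₂ • (kb q τ a₁ v • y) - polar q x a₁ • (kb q τ a₂ v • y))) := ⟨_, fun _ => rfl⟩
  have hγi : γ⁻¹ = eich q a₂ (-(c₀ • a₁)) := by
    rw [hγ]
    refine inv_eq_of_mul_eq_one_right ?_
    rw [eich_add h₂.1 h21 (by rw [polar_neg_right, h21, neg_zero]), add_neg_cancel]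
    exact ext_app fun x => by rw [app_eich h₂.1 (polar_zero_right ..), app_one, QuadraticMap.map_zero]; simp
  have hg₁x : ∀ x, kb q τ y x = 0 → app g₁ x = x + ψ x := fun x hx => by
    have hTix := hTi x hx
    have hxl : kb q τ y (app l⁻¹ x) = 0 := hperp_line x hx _ hlinv
    rw [hg₁, app_mul, app_mul, app_mul, hTix, map_add, hlinv _ (smul_mem_line _ y), map_add,
      hTline _ (smul_mem_line _ y), hTx _ hxl, map_add, map_sub, app_app_inv,
      hlline _ (smul_mem_line _ y), hlline _ (smul_mem_line _ y)]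
    have hz : kb q τ (app l⁻¹ x) v = kb q τ (app γ⁻¹ x) v := by
      have hgfix : ∀ e ∈ E, app γ e = e := fun e he => by
        rw [hγ, app_eich h₂.1 h21, h₂.2.1 e he, polar_smul_right, h₁.2.1 e he]; simp
      have hgi : ∀ e ∈ E, app γ⁻¹ e = e := fun e he => by conv_lhs => rw [← hgfix e he, app_inv_app]
      have h1 := hlγ _ ((hperp x hx).app hgi)
      rw [app_app_inv] at h1
      obtain ⟨z, hz, hze⟩ : ∃ z ∈ E, app l⁻¹ x = app γ⁻¹ x - z := by
        refine ⟨_, h1, app_injective l ?_⟩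
        rw [app_app_inv, map_sub, hlE _ h1]
        abel
      obtain ⟨k, rfl⟩ := mem_line.1 (hEy hz)
      rw [hze, S.kb_sub_left, S.kb_smul_left, hv, mul_zero, sub_zero]
    have hfs : ∀ (t : F) (a : ι → F), kb q τ (t • a) v = algebraMap F L t * kb q τ a v := fun t a => by
      rw [← algebraMap_smul L t a, S.kb_smul_left]
    rw [hz, hγi, app_eich h₂.1 (by rw [polar_neg_right, h21, neg_zero]), QuadraticMap.map_neg,
      QuadraticMap.map_smul, h₁.1, polar_neg_right, polar_smul_right, hψ]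
    simp only [smul_zero, zero_mul, sub_zero, neg_neg, smul_eq_mul, S.kb_add_left, S.kb_neg_left, hfs,
      smul_neg, map_mul]
    simp only [← algebraMap_smul L c₀, ← algebraMap_smul L (polar q x a₂) (kb q τ a₁ v • y),
      ← algebraMap_smul L (polar q x a₁) (kb q τ a₂ v • y), smul_sub]
    match_scalars <;> simp <;> ring
  have hψE : ∀ x, ψ x ∈ E := fun x => by
    rw [hψ]
    exact E.smul_mem _ (E.sub_mem (E.smul_mem _ hv₁) (E.smul_mem _ hv₂))
  -- the second map
  obtain ⟨f, hf, hfa⟩ := S.exists_orth_pairing ha₂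
  rw [GeomClasses.OrthTools.mem_orth] at hf
  have hfy : kb q τ y f = 0 := S.kb_eq_zero fun d => hf _ (Submodule.mem_sup_left (smul_mem_line d y))
  have hf1 : polar q a₁ f = 0 := hf _ (Submodule.mem_sup_right (Submodule.mem_span_singleton_self _))
  obtain ⟨hγ'E, l', hl'M, hl'e, hd'⟩ := h₁.2.2 _ (hperp f hfy) hf1
  obtain ⟨g₂, hg₂⟩ : ∃ g₂, g₂ = l' * g₁ * l'⁻¹ * g₁⁻¹ := ⟨_, rfl⟩
  have hg₁line : ∀ w ∈ line L y, app g₁ w = w := fun w hw => by
    have hTinv : app T⁻¹ w = w := by conv_lhs => rw [← hTline w hw, app_inv_app]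
    rw [hg₁, app_mul, app_mul, app_mul, hTinv, hlinv w hw, hTline w hw, hlline w hw]
  have hl'line : ∀ w ∈ line L y, app l' w ∈ line L y := fun w hw => by
    rw [hline] at hw
    obtain ⟨e, he, z, hz, rfl⟩ := Submodule.mem_sup.1 hw
    obtain ⟨t, rfl⟩ := Submodule.mem_span_singleton.1 hz
    have h1 := hd' y hPy
    rw [app_eich h₁.1 hf1, polar_comm (f := ⇑q) y a₁, hpy a₁ h1y, polar_comm (f := ⇑q) y f, hpy f hfy] at h1
    simp only [zero_smul, mul_zero, neg_zero, sub_zero, add_zero] at h1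
    rw [map_add, map_smul, hl'e e he, show app l' y = y + (app l' y - y) by abel]
    exact Submodule.add_mem _ (hEy he) (Submodule.smul_mem _ _ (Submodule.add_mem _ (self_mem_line y) (hEy h1)))
  have hl'inv : ∀ x, kb q τ y x = 0 → kb q τ y (app l'⁻¹ x) = 0 := fun x hx => by
    refine S.perp_line.1 fun e he => ?_
    rw [← polar_app l', app_app_inv]
    exact S.perp_line.2 hx _ (hl'line e he)
  have hg₂M : g₂ ∈ M := by
    rw [hg₂]
    exact M.mul_mem (M.mul_mem (M.mul_mem hl'M hg₁M) (M.inv_mem hl'M)) (M.inv_mem hg₁M)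
  refine ⟨ψ f, hEy (hψE f), ?_, a₁, h₁.1, h1y, ha₁, g₂, hg₂M, fun w hw => ?_, fun x hx => ?_⟩
  · rw [hψ, polar_comm (f := ⇑q) f a₁, hf1, zero_smul, sub_zero, smul_smul]
    refine smul_ne_zero (mul_ne_zero hc00 ?_) (smul_ne_zero hv0 hy0)
    exact hfa
  · have hl'i : app l'⁻¹ w ∈ line L y := by
      have himg : img l' (line L y) = line L y :=
        Submodule.eq_of_le_of_finrank_eq (by rintro _ ⟨a, ha, rfl⟩; exact hl'line a ha) (finrank_img _ _)
      rw [← himg] at hw
      exact mem_img.1 hw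
    rw [hg₂, app_mul, app_mul, app_mul]
    have h1 : app g₁⁻¹ w = w := by conv_lhs => rw [← hg₁line w hw, app_inv_app]
    rw [h1, hg₁line _ hl'i, app_app_inv]
  · have hg1i : app g₁⁻¹ x = x - ψ x := app_injective g₁ (by
      rw [app_app_inv, map_sub, hg₁x x hx, hg₁line _ (hEy (hψE x))]; abel)
    have hψfix : ∀ x, app l'⁻¹ (ψ x) = ψ x := fun x => by
      conv_lhs => rw [← hl'e _ (hψE x), app_inv_app]
    rw [hg₂, app_mul, app_mul, app_mul, hg1i, map_sub, hψfix, map_sub, hg₁x _ (hl'inv x hx),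
      hg₁line _ (hEy (hψE x)), map_sub, map_add, app_app_inv, hl'e _ (hψE _), hl'e _ (hψE _)]
    obtain ⟨γ', hγ'⟩ : ∃ γ', γ' = eich q a₁ f := ⟨_, rfl⟩
    rw [← hγ'] at hγ'E hd'
    have hgi : ∀ e ∈ E, app γ'⁻¹ e = e := fun e he => by conv_lhs => rw [← hγ'E e he, app_inv_app]
    have h1 := hd' _ ((hperp x hx).app hgi)
    rw [app_app_inv] at h1
    obtain ⟨z, hz, hze⟩ : ∃ z ∈ E, app l'⁻¹ x = app γ'⁻¹ x - z := by
      refine ⟨_, h1, app_injective l' ?_⟩
      rw [app_app_inv, map_sub, hl'e _ h1]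
      abel
    have hei : app γ'⁻¹ x = app (eich q a₁ (-f)) x := by
      rw [hγ']
      congr 2
      refine inv_eq_of_mul_eq_one_right ?_
      rw [eich_add h₁.1 hf1 (by rw [polar_neg_right, hf1, neg_zero]), add_neg_cancel]
      exact ext_app fun x => by rw [app_eich h₁.1 (polar_zero_right ..), app_one, QuadraticMap.map_zero]; simp
    have hzero : ∀ a, kb q τ y a = 0 → polar q z a = 0 := fun a ha => S.perp_line.2 ha z (hEy hz)
    rw [hze, hψ, hψ, hψ, polar_sub_left, polar_sub_left, hzero a₂ h2y, hzero a₁ h1y, sub_zero, sub_zero, hei,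
      app_eich h₁.1 (by rw [polar_neg_right, hf1, neg_zero]), QuadraticMap.map_neg]
    simp only [polar_add_left, polar_smul_left, polar_neg_left, polar_neg_right, h12, polar_self', h₁.1,
      polar_comm (f := ⇑q) f a₁, hf1, smul_eq_mul]
    module

set_option maxHeartbeats 1000000 in
/-- The conclusion of the climb, as a soft root element. -/
theorem Setup.exists_soft [hW : Wide F ι L] {M : Subgroup (O q)} (hM : HasLin L M) (hG : Good q τ M (finrank F L - 1)) :
    ∃ y, y ≠ 0 ∧ kb q τ y y = 0 ∧ Soft (L := L) (τ := τ) M y := by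
  have := S.finite
  have := S.finiteL
  obtain ⟨u, c, P, hdim, hex⟩ := hG
  have hu := P.sing
  obtain ⟨E, hE⟩ : ∃ E, E = line L u ⊓ img c (line L u) := ⟨_, rfl⟩
  rw [← hE] at hdim
  have hEu : E ≤ line L u := hE ▸ inf_le_left
  have hEY : E ≤ img c (line L u) := hE ▸ inf_le_right
  have hr := S.prime.two_le
  have hfin : finrank F E + 1 = finrank F L := by
    have h1 := Submodule.finrank_mono hEu
    rw [finrank_line P.ne] at h1
    by_contra h
    have e1 := Submodule.eq_of_le_of_finrank_eq hEu (by rw [finrank_line P.ne]; omega)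
    refine P.move (Submodule.eq_of_le_of_finrank_eq ?_ (finrank_img _ _).symm).symm
    exact fun x hx => hEY (by rwa [e1])
  obtain ⟨y, hyu, hyE⟩ : ∃ y ∈ line L u, y ∉ E := by
    by_contra hc
    push Not at hc
    have h1 := Submodule.finrank_mono (show line L u ≤ E from hc)
    rw [finrank_line P.ne] at h1
    omega
  obtain ⟨z, hzY, hzE⟩ : ∃ z ∈ img c (line L u), z ∉ E := by
    by_contra hc
    push Not at hc
    have h1 := Submodule.finrank_mono (show img c (line L u) ≤ E from hc)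
    rw [finrank_img, finrank_line P.ne] at h1
    omega
  have hgen : ∀ y ∈ line L u, y ≠ 0 → line L y = line L u ∧ kb q τ y y = 0 := fun y hy hy0 => by
    obtain ⟨k, rfl⟩ := mem_line.1 hy
    refine ⟨Submodule.eq_of_le_of_finrank_eq (fun x hx => ?_) (by rw [finrank_line hy0, finrank_line P.ne]),
      by rw [S.kb_smul_left, S.kb_smul_right, hu, mul_zero, mul_zero]⟩
    obtain ⟨l, rfl⟩ := mem_line.1 hx
    rw [smul_smul]
    exact smul_mem_line _ u
  have hy0 : y ≠ 0 := fun h => hyE (h ▸ E.zero_mem)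
  obtain ⟨hyl, hys⟩ := hgen y hyu hy0
  have hzu : z ∉ line L u := fun h => hzE (hE ▸ ⟨h, hzY⟩)
  have hFy := S.fullE_gen hM hy0 hys (hyl ▸ hEu) hyE hfin
  have hFz : FullE M E z := by
    obtain ⟨E₀, hE₀⟩ : ∃ E₀, E₀ = img c⁻¹ E := ⟨_, rfl⟩
    have h0E : ∀ x, x ∈ E₀ ↔ app c x ∈ E := fun x => by rw [hE₀, mem_img, inv_inv]
    have hy₀ : app c⁻¹ z ∈ line L u := mem_img.1 hzY
    have hy₀E : app c⁻¹ z ∉ E₀ := fun h => hzE (by rwa [h0E, app_app_inv] at h)
    have hy₀0 : app c⁻¹ z ≠ 0 := fun h => hy₀E (h ▸ E₀.zero_mem)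
    obtain ⟨hl₀, hs₀⟩ := hgen _ hy₀ hy₀0
    have hF := S.fullE_img (S.fullE_gen hM hy₀0 hs₀ (E := E₀) (by
      intro x hx
      rw [hl₀]
      have h1 := mem_img.1 (hEY ((h0E x).1 hx))
      rwa [app_inv_app] at h1) hy₀E (by rw [hE₀, finrank_img, hfin])) P.mem
    rwa [app_app_inv, hE₀, ← img_mul, mul_inv_cancel, img_one] at hF
  refine ⟨y, hy0, hys, ?_⟩
  rw [← hyl] at hzu hEu
  have hEq : ∀ e ∈ E, q e = 0 := fun e he => (S.line_singular hys (hEu he)).1
  have hline := S.hyper_eq_sup hy0 hEu hyE hfin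
  have hperp : ∀ x, kb q τ y x = 0 → Perp q E x := fun x hx e he => S.perp_line.2 hx e (hEu he)
  obtain ⟨Z, hZ⟩ : ∃ Z, Z = E.comap ((LinearMap.toSpanSingleton L (ι → F) y).restrictScalars F) := ⟨_, rfl⟩
  have hmZ : ∀ k : L, k ∈ Z ↔ k • y ∈ E := fun k => by rw [hZ]; rfl
  have hZfin : finrank F Z = finrank F E := by
    have hinj : Function.Injective ((LinearMap.toSpanSingleton L (ι → F) y).restrictScalars F) :=
      fun a b h => smul_left_injective L hy0 h
    rw [hZ, (Submodule.equivMapOfInjective _ hinj _).finrank_eq, Submodule.map_comap_eq_of_le]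
    intro e he
    obtain ⟨k, hk⟩ := mem_line.1 (hEu he)
    exact ⟨k, hk⟩
  obtain ⟨ν, hν, hν0⟩ := Submodule.exists_mem_ne_zero_of_ne_bot (p := Z) (fun h => by
    rw [h, finrank_bot] at hZfin; omega)
  have hscale : ∀ a₁ a₂ v : ι → F, kb q τ y v = 0 → kb q τ a₁ v ≠ 0 → 3 ≤ finrank F L →
      ∃ v', kb q τ y v' = 0 ∧ kb q τ a₁ v' • y ∈ E ∧ kb q τ a₂ v' • y ∈ E ∧ kb q τ a₁ v' ≠ 0 := by
    intro a₁ a₂ v hyv hzv hr3
    obtain ⟨d, hd⟩ : ∃ d, d = kb q τ a₂ ((kb q τ a₁ v)⁻¹ • v) := ⟨_, rfl⟩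
    obtain ⟨k, hk, hk0⟩ := Submodule.exists_mem_ne_zero_of_ne_bot
      (p := Z ⊓ Z.comap (LinearMap.mulRight F d)) (fun h0 => by
      have h1 := LinearMap.finrank_range_add_finrank_ker ((Z.mkQ ∘ₗ LinearMap.mulRight F d).domRestrict Z)
      have h2 := Submodule.finrank_le (LinearMap.range ((Z.mkQ ∘ₗ LinearMap.mulRight F d).domRestrict Z))
      have h3 := Z.finrank_quotient_add_finrank
      have h4 : LinearMap.ker ((Z.mkQ ∘ₗ LinearMap.mulRight F d).domRestrict Z) = ⊥ := by
        refine (Submodule.eq_bot_iff _).2 fun x hx => Subtype.ext ?_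
        have : (x : L) ∈ Z ⊓ Z.comap (LinearMap.mulRight F d) :=
          ⟨x.2, (Submodule.Quotient.mk_eq_zero Z).1 hx⟩
        rwa [h0, Submodule.mem_bot] at this
      rw [h4, finrank_bot] at h1
      omega)
    refine ⟨(k * (kb q τ a₁ v)⁻¹) • v, ?_, ?_, ?_, ?_⟩
    · rw [S.kb_smul_right, hyv, mul_zero]
    · rw [S.kb_smul_right, mul_assoc, inv_mul_cancel₀ hzv, mul_one]; exact (hmZ k).1 hk.1
    · rw [mul_smul, S.kb_smul_right, ← hd]; exact (hmZ _).1 hk.2
    · rw [S.kb_smul_right, mul_assoc, inv_mul_cancel₀ hzv, mul_one]; exact hk0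
  -- when two centres are not orthogonal
  have big : ∀ z₁ z₂, FullE M E z₁ → FullE M E z₂ → polar q z₁ z₂ ≠ 0 → Soft (L := L) (τ := τ) M y := by
    intro z₁ z₂ h₁ h₂ h12
    have hall := fun t ht htE htn => S.fullE_all hEq h₁ h₂ h12 (t := t) ht htE htn
    have hpick : ∀ X R : Submodule F (ι → F), finrank F R + 3 ≤ finrank F X → ∃ a ∈ X, a ∉ R ∧ q a = 0 := by
      intro X R hXR
      obtain ⟨C, hC⟩ := R.exists_isCompl
      have h1 := Submodule.finrank_sup_add_finrank_inf_eq X C
      have h2 := Submodule.finrank_le (X ⊔ C)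
      have h3 := Submodule.finrank_add_eq_of_isCompl hC
      obtain ⟨a, ha, ha0, hqa⟩ := GeomClasses.OrthTools.exists_singular S.nondeg (X ⊓ C) (by omega)
      exact ⟨a, ha.1, fun h => ha0 (Submodule.disjoint_def.1 hC.disjoint a h ha.2), hqa⟩
    have hfl := finrank_line (L := L) hy0
    obtain ⟨a₂, ha₂, ha₂n, hqa₂⟩ := hpick (GeomClasses.OrthTools.orth q (line L y)) (line L y) (by
      rw [GeomClasses.OrthTools.finrank_orth S.nondeg, hfl]
      have := hW.four; have := hW.big; omega)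
    have h2y : kb q τ y a₂ = 0 := S.perp_line.1 (GeomClasses.OrthTools.mem_orth.1 ha₂)
    have hfin2 := GeomClasses.OrthTools.finrank_inf_orth S.nondeg (GeomClasses.OrthTools.orth q (line L y)) a₂
    rw [GeomClasses.OrthTools.finrank_orth S.nondeg, hfl] at hfin2
    have hmain : ∀ R : Submodule F (ι → F), line L y ⊔ Submodule.span F {a₂} ≤ R →
        finrank F R + 3 + finrank F L + 1 ≤ Fintype.card ι →
        (∀ a₁, a₁ ∉ R → ∃ v, kb q τ y v = 0 ∧ kb q τ a₁ v • y ∈ E ∧ kb q τ a₂ v • y ∈ E ∧ kb q τ a₁ v ≠ 0) →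
        Soft (L := L) (τ := τ) M y := by
      intro R hsub hRfin hvex
      obtain ⟨a₁, ha₁, ha₁n, hqa₁⟩ := hpick
        (GeomClasses.OrthTools.orth q (line L y) ⊓ GeomClasses.OrthTools.orth q (Submodule.span F {a₂})) R
        (by omega)
      have h1y : kb q τ y a₁ = 0 := S.perp_line.1 (GeomClasses.OrthTools.mem_orth.1 ha₁.1)
      have h12' : polar q a₁ a₂ = 0 := by rw [polar_comm]; exact (GeomClasses.OrthTools.mem_inf_orth ha₁).2
      have ha₁l : a₁ ∉ line L y := fun h => ha₁n (hsub (Submodule.mem_sup_left h))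
      have ha₂n' : a₂ ∉ line L y ⊔ Submodule.span F {a₁} := fun h => by
        obtain ⟨w, hw, b, hb, hab⟩ := Submodule.mem_sup.1 h
        obtain ⟨t, rfl⟩ := Submodule.mem_span_singleton.1 hb
        rcases eq_or_ne t 0 with rfl | ht
        · rw [zero_smul, add_zero] at hab
          exact ha₂n (hab ▸ hw)
        · refine ha₁n (hsub ?_)
          rw [show a₁ = (-t⁻¹) • w + t⁻¹ • a₂ by rw [← hab, smul_add, smul_smul, inv_mul_cancel₀ ht]; module]
          exact Submodule.add_mem_sup (Submodule.smul_mem _ _ hw)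
            (Submodule.smul_mem _ _ (Submodule.mem_span_singleton_self _))
      obtain ⟨v, hv, hv1, hv2, hv0⟩ := hvex a₁ ha₁n
      exact S.soft_of_centres hM hy0 hys hEu hyE hfin (hall a₁ hqa₁ (hperp a₁ h1y) fun h => ha₁l (hEu h))
        (hall a₂ hqa₂ (hperp a₂ h2y) fun h => ha₂n (hEu h)) h1y h2y h12' ha₁l ha₂n' hv hv1 hv2 hv0
    have hls : ∀ x ∈ line L y, x ∈ Submodule.span L ({y, a₂} : Set (ι → F)) := fun x hx => by
      obtain ⟨k, rfl⟩ := mem_line.1 hx
      exact Submodule.smul_mem _ _ (Submodule.subset_span (by simp))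
    have := hW.four
    have := hW.big
    by_cases hr2 : finrank F L = 2
    · refine hmain ((Submodule.span L ({y, a₂} : Set (ι → F))).restrictScalars F)
        (sup_le hls ((Submodule.span_singleton_le_iff_mem _ _).2 (Submodule.subset_span (by simp)))) ?_ ?_
      · classical
        have h1 : finrank L ↥(Submodule.span L ({y, a₂} : Set (ι → F))) ≤ 2 :=
          (finrank_span_le_card _).trans (by
            rw [Set.toFinset_insert, Set.toFinset_singleton]; exact (Finset.card_insert_le _ _).trans (by simp))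
        have h2 := Module.finrank_mul_finrank F L ↥(Submodule.span L ({y, a₂} : Set (ι → F)))
        rw [show finrank F ↥((Submodule.span L ({y, a₂} : Set (ι → F))).restrictScalars F) =
          finrank F ↥(Submodule.span L ({y, a₂} : Set (ι → F))) from rfl, ← h2, hr2]
        omega
      · intro a₁ ha₁L
        obtain ⟨v, hv, h1v⟩ := S.exists_orth_not_mem _ (y := a₁) ha₁L
        have hyv : kb q τ y v = 0 := hv y (Submodule.subset_span (by simp))
        have h2v : kb q τ a₂ v = 0 := hv a₂ (Submodule.subset_span (by simp))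
        refine ⟨(ν * (kb q τ a₁ v)⁻¹) • v, ?_, ?_, ?_, ?_⟩
        · rw [S.kb_smul_right, hyv, mul_zero]
        · rw [S.kb_smul_right, mul_assoc, inv_mul_cancel₀ h1v, mul_one]; exact (hmZ ν).1 hν
        · rw [S.kb_smul_right, h2v, mul_zero, zero_smul]; exact E.zero_mem
        · rw [S.kb_smul_right, mul_assoc, inv_mul_cancel₀ h1v, mul_one]; exact hν0
    · refine hmain (line L y ⊔ Submodule.span F {a₂}) le_rfl ?_ ?_
      · rw [finrank_sup_one ha₂n, hfl]
        omega
      · intro a₁ ha₁n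
        obtain ⟨v, hv, h1v⟩ := S.exists_orth_not_mem (Submodule.span L {y}) (y := a₁)
          (fun h => ha₁n (Submodule.mem_sup_left h))
        exact hscale a₁ a₂ v (hv y (Submodule.mem_span_singleton_self y)) h1v (by
          have := S.prime.two_le; omega)
  by_cases hyz : polar q y z = 0
  swap
  · exact big y z hFy hFz hyz
  have hzy : kb q τ y z = 0 := S.perp_line.1 fun e he => by
    rw [hline] at he
    obtain ⟨e', he', b, hb, rfl⟩ := Submodule.mem_sup.1 he
    obtain ⟨t, rfl⟩ := Submodule.mem_span_singleton.1 hb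
    rw [polar_add_left, polar_smul_left, hFz.2.1 e' he', hyz, smul_zero, add_zero]
  have hr3 : 3 ≤ finrank F L := by
    by_contra h
    obtain ⟨x, hx, y', hy', hxy⟩ := hex (by omega)
    refine hxy ?_
    rw [← hyl] at hx
    have hzline : img c (line L u) = E ⊔ Submodule.span F {z} :=
      (Submodule.eq_of_le_of_finrank_eq (sup_le hEY ((Submodule.span_singleton_le_iff_mem _ _).2 hzY))
        (by rw [finrank_sup_one hzE, hfin, finrank_img, finrank_line P.ne])).symm
    rw [hzline] at hy'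
    obtain ⟨e', he', b, hb, rfl⟩ := Submodule.mem_sup.1 hy'
    obtain ⟨t, rfl⟩ := Submodule.mem_span_singleton.1 hb
    rw [polar_add_right, polar_smul_right, S.perp_line.2 hzy x hx, smul_zero, add_zero, polar_comm]
    rw [hline] at hx
    obtain ⟨e'', he'', b', hb', rfl⟩ := Submodule.mem_sup.1 hx
    obtain ⟨t', rfl⟩ := Submodule.mem_span_singleton.1 hb'
    rw [polar_comm, polar_add_left, polar_smul_left, polar_comm (f := ⇑q) y e', hFy.2.1 e' he', smul_zero, add_zero]
    exact S.perp_line.2 (S.line_singular hys (hEu he')).2 e'' (hEu he'')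
  -- an element fixing the line which moves `z`
  obtain ⟨w, hw⟩ := S.exists_pairing hy0
  obtain ⟨α, β, hy', hyy'⟩ := S.exists_partner hys hw
  obtain ⟨y', hy'def⟩ : ∃ y', y' = α • w + β • y := ⟨_, rfl⟩
  rw [← hy'def] at hy' hyy'
  obtain ⟨zb, hzb⟩ : ∃ zb, zb = z - kb q τ z y' • y := ⟨_, rfl⟩
  have hzbN : zb ∈ S.kperp ![y, y'] := by
    have h := S.sub_mem_pair hys hy' hyy' z
    rwa [S.kb_comm z y, hzy, zero_smul, sub_zero, ← hzb] at h
  have hzb0 : zb ≠ 0 := fun h => hzu (by
    rw [hzb, sub_eq_zero] at h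
    exact h ▸ smul_mem_line _ y)
  obtain ⟨h, hhM, hhlin, hhy, hhy', hhz⟩ : ∃ h ∈ M, IsKLin L h ∧ app h y = y ∧ app h y' = y' ∧
      ∀ t : F, app h zb ≠ t • zb := by
    by_cases hs : kb q τ zb zb = 0
    · obtain ⟨k, hk⟩ : ∃ k : L, ∀ t : F, algebraMap F L t ≠ k * k := by
        by_contra hc
        push Not at hc
        have hall : ∀ d : L, ∃ t : F, algebraMap F L t = d := fun d => by
          obtain ⟨a, ha⟩ := hc (d + 1)
          obtain ⟨b, hb⟩ := hc d
          refine ⟨(a - b - 1) / 2, ?_⟩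
          rw [map_div₀, map_sub, map_sub, ha, hb, map_one, map_ofNat]
          have := S.two'
          field_simp
          ring
        have h1 := LinearMap.finrank_range_le (R := F) (Algebra.linearMap F L)
        rw [(LinearMap.range_eq_top (f := Algebra.linearMap F L)).2 hall, finrank_top, Module.finrank_self] at h1
        omega
      have hk0 : k ≠ 0 := fun h => hk 0 (by rw [h, map_zero, mul_zero])
      obtain ⟨x, hx, hxz⟩ : ∃ x ∈ S.kperp ![y, y'], kb q τ zb x ≠ 0 := by
        by_contra hc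
        push Not at hc
        exact hzb0 (S.pair_nondeg hys hy' hyy' hzbN hc)
      obtain ⟨a, b, hz', hzz'⟩ := S.exists_partner hs hxz
      have hz'N : a • x + b • zb ∈ S.kperp ![y, y'] :=
        Submodule.add_mem _ (Submodule.smul_mem _ _ hx) (Submodule.smul_mem _ _ hzbN)
      obtain ⟨g, hg, hgl, hgz, hgfix⟩ := S.exists_scale_elem hM hk0 hs hz' hzz'
      refine ⟨g, hg, hgl, hgfix y (S.mem_kperp.2 fun i => ?_), hgfix y' (S.mem_kperp.2 fun i => ?_), fun t ht => ?_⟩
      · fin_cases i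
        · show kb q τ zb y = 0
          rw [S.kb_comm]; exact S.mem_kperp.1 hzbN 0
        · show kb q τ (a • x + b • zb) y = 0
          rw [S.kb_comm]; exact S.mem_kperp.1 hz'N 0
      · fin_cases i
        · show kb q τ zb y' = 0
          rw [S.kb_comm]; exact S.mem_kperp.1 hzbN 1
        · show kb q τ (a • x + b • zb) y' = 0
          rw [S.kb_comm]; exact S.mem_kperp.1 hz'N 1
      · rw [hgz, ← algebraMap_smul L t zb] at ht
        exact hk t (smul_left_injective L hzb0 ht).symm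
    · obtain ⟨e, he, hee⟩ : ∃ e ∈ S.kperp ![y, y', zb], kb q τ e e ≠ 0 := by
        by_contra hc
        push Not at hc
        obtain ⟨e, he, he0⟩ := Submodule.exists_mem_ne_zero_of_ne_bot (p := S.kperp ![y, y', zb]) (fun h => by
          have h2 := S.le_finrank_kperp ![y, y', zb]
          have h3 := S.four_le
          rw [h, finrank_bot] at h2
          omega)
        have heN : e ∈ S.kperp ![y, y'] := S.mem_kperp.2 fun i => by
          fin_cases i
          · exact S.mem_kperp.1 he 0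
          · exact S.mem_kperp.1 he 1
        refine he0 (S.pair_nondeg hys hy' hyy' heN fun x hx => ?_)
        obtain ⟨x', hx'⟩ : ∃ x', x' = x - (kb q τ zb x / kb q τ zb zb) • zb := ⟨_, rfl⟩
        have hx'm : x' ∈ S.kperp ![y, y', zb] := S.mem_kperp.2 fun i => by
          fin_cases i
          · exact hx' ▸ S.mem_kperp.1 (Submodule.sub_mem _ hx (Submodule.smul_mem _ _ hzbN)) 0
          · exact hx' ▸ S.mem_kperp.1 (Submodule.sub_mem _ hx (Submodule.smul_mem _ _ hzbN)) 1
          · show kb q τ zb x' = 0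
            rw [hx', S.kb_sub_right, S.kb_smul_right, div_mul_cancel₀ _ hs, sub_self]
        have h1 := hc (e + x') (Submodule.add_mem _ he hx'm)
        rw [S.kb_add_left, S.kb_add_right, S.kb_add_right, hc e he, hc x' hx'm, S.kb_comm x' e, zero_add,
          add_zero, ← two_mul, hx', S.kb_sub_right, S.kb_smul_right, S.kb_comm e zb,
          show kb q τ zb e = 0 from S.mem_kperp.1 he 2, mul_zero, sub_zero] at h1
        exact (mul_eq_zero.1 h1).resolve_left S.two'
      have hye : kb q τ y e = 0 := S.mem_kperp.1 he 0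
      have hze : kb q τ zb e = 0 := S.mem_kperp.1 he 2
      have hyz' : kb q τ y zb = 0 := S.mem_kperp.1 hzbN 0
      obtain ⟨A, hA⟩ : ∃ A, A = kb q τ zb zb := ⟨_, rfl⟩
      obtain ⟨B, hB⟩ : ∃ B, B = kb q τ e e := ⟨_, rfl⟩
      obtain ⟨k, hk0, hkp, hkm⟩ : ∃ k : L, k ≠ 0 ∧ k * k * B ≠ A ∧ k * k * B ≠ -A := by
        classical
        by_contra hc
        push Not at hc
        have hsub : (Finset.univ : Finset L) ⊆ {0} ∪ (Polynomial.C B * Polynomial.X ^ 2 - Polynomial.C A).roots.toFinset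
            ∪ (Polynomial.C B * Polynomial.X ^ 2 + Polynomial.C A).roots.toFinset := fun k _ => by
          have hd : ∀ a : L, (Polynomial.C B * Polynomial.X ^ 2 - Polynomial.C a).natDegree = 2 := fun a => by
            rw [Polynomial.natDegree_sub_C, Polynomial.natDegree_C_mul_X_pow _ _ (hB ▸ hee)]
          by_cases h0 : k = 0
          · simp [h0]
          by_cases h1 : k * k * B = A
          · refine Finset.mem_union_left _ (Finset.mem_union_right _ ?_)
            rw [Multiset.mem_toFinset, Polynomial.mem_roots']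
            exact ⟨fun h => by have := hd A; rw [h, Polynomial.natDegree_zero] at this; omega,
              by simp [Polynomial.IsRoot]; linear_combination h1⟩
          · refine Finset.mem_union_right _ ?_
            rw [Multiset.mem_toFinset, Polynomial.mem_roots',
              show Polynomial.C B * Polynomial.X ^ 2 + Polynomial.C A =
                Polynomial.C B * Polynomial.X ^ 2 - Polynomial.C (-A) by rw [Polynomial.C_neg, sub_neg_eq_add]]
            exact ⟨fun h => by have := hd (-A); rw [h, Polynomial.natDegree_zero] at this; omega,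
              by simp [Polynomial.IsRoot]; linear_combination hc k h0 h1⟩
        have h1 := (Finset.card_le_card hsub).trans ((Finset.card_union_le _ _).trans
          (Nat.add_le_add_right (Finset.card_union_le _ _) _))
        have hdeg : ∀ p : Polynomial L, p.natDegree ≤ 2 → p.roots.toFinset.card ≤ 2 := fun p hp =>
          (Multiset.toFinset_card_le _).trans ((Polynomial.card_roots' p).trans hp)
        have h2 := hdeg (Polynomial.C B * Polynomial.X ^ 2 - Polynomial.C A)
          (by rw [Polynomial.natDegree_sub_C]; exact Polynomial.natDegree_C_mul_X_pow_le _ _)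
        have h3 := hdeg (Polynomial.C B * Polynomial.X ^ 2 + Polynomial.C A)
          (by rw [Polynomial.natDegree_add_C]; exact Polynomial.natDegree_C_mul_X_pow_le _ _)
        rw [Finset.card_univ, Finset.card_singleton] at h1
        have h4 := Module.card_eq_pow_finrank (K := F) (V := L)
        have h5 : 2 ≤ Fintype.card F := Fintype.one_lt_card
        have h6 : 2 ^ 3 ≤ Fintype.card F ^ finrank F L :=
          (Nat.pow_le_pow_left h5 3).trans (Nat.pow_le_pow_right (by omega) hr3)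
        omega
      have hb : kb q τ (zb + k • e) (zb + k • e) ≠ 0 := by
        rw [S.kb_add_left, S.kb_add_right, S.kb_add_right, S.kb_smul_left, S.kb_smul_left, S.kb_smul_right,
          S.kb_smul_right, S.kb_comm e zb, hze, ← hA, ← hB]
        intro h0
        exact hkm (by linear_combination h0)
      refine ⟨S.rot hs hb, S.rot_mem hM hs hb, ?_, S.rot_fix hs hb hyz' (by
        rw [S.kb_add_right, S.kb_smul_right, hyz', hye, mul_zero, add_zero]),
        S.rot_fix hs hb (S.mem_kperp.1 hzbN 1) (by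
          rw [S.kb_add_right, S.kb_smul_right, show kb q τ y' zb = 0 from S.mem_kperp.1 hzbN 1,
            show kb q τ y' e = 0 from S.mem_kperp.1 he 1, mul_zero, add_zero]), fun t ht => ?_⟩
      · rw [Setup.rot, commutatorElement_def]
        exact ((S.kIso_lin.mul S.kIso_lin).mul S.kIso_lin.inv).mul S.kIso_lin.inv
      · have h2 := congrArg (fun x => kb q τ x e) ht
        have hAB : A + k * k * B ≠ 0 := fun h0 => hkm (by linear_combination h0)
        simp only [Setup.rot, commutatorElement_def, S.kR_inv, app_mul, S.app_kR, S.kb_sub_left, S.kb_smul_left,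
          S.kb_add_left, S.kb_add_right, S.kb_smul_right, S.kb_comm e zb, hze, ← algebraMap_smul L t zb,
          ← hA, ← hB, mul_zero, add_zero, zero_add] at h2
        have hA0 : A ≠ 0 := hA ▸ hs
        have hB0 : B ≠ 0 := hB ▸ hee
        have hAB' : A + k ^ 2 * B ≠ 0 := by rw [pow_two]; exact hAB
        field_simp at h2
        have h3 : (4 : L) * k * B * A * (A - k * k * B) = 0 := by
          ring_nf at h2 ⊢
          linear_combination -h2
        have h8 : (4 : L) ≠ 0 := by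
          rw [show (4 : L) = 2 * 2 by norm_num]
          exact mul_ne_zero S.two' S.two'
        rcases mul_eq_zero.1 h3 with h4 | h4
        · exact mul_ne_zero (mul_ne_zero (mul_ne_zero h8 hk0) hB0) hA0 h4
        · exact hkp (sub_eq_zero.1 h4).symm
  have hhline : ∀ x ∈ line L y, app h x = x := fun x hx => by
    obtain ⟨k, rfl⟩ := mem_line.1 hx
    rw [hhlin, hhy]
  have hFhz : FullE M E (app h z) := FullE.conj_gp hFz
    ⟨fun e he => hhline e (hEu he), h, hhM, fun e he => hhline e (hEu he),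
      fun x _ => by rw [sub_self]; exact E.zero_mem⟩
  by_cases hzz : polar q z (app h z) = 0
  swap
  · exact big z (app h z) hFz hFhz hzz
  have hzl : z ∉ line L y := hzu
  have hhz0 : kb q τ y (app h z) = 0 := by
    refine S.perp_line.1 fun e he => ?_
    rw [← hhline e he, polar_app]
    exact S.perp_line.2 hzy e he
  have hn : app h z ∉ line L y ⊔ Submodule.span F {z} := fun hm => by
    obtain ⟨a, ha, b, hb, hab⟩ := Submodule.mem_sup.1 hm
    obtain ⟨t, rfl⟩ := Submodule.mem_span_singleton.1 hb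
    obtain ⟨k, rfl⟩ := mem_line.1 ha
    refine hhz t ?_
    have h1 : app h z = app h zb + kb q τ z y' • y := by
      rw [hzb, map_sub, hhline _ (smul_mem_line _ y), sub_add_cancel]
    have h2 : app h zb - t • zb = (k + algebraMap F L t * kb q τ z y' - kb q τ z y') • y := by
      rw [sub_smul, add_smul, mul_smul, algebraMap_smul, hzb, smul_sub]
      rw [h1, hzb] at hab
      linear_combination (norm := abel) -hab
    have h3 := congrArg (fun x => kb q τ x y') h2
    simp only [S.kb_smul_left, hyy', mul_one, S.kb_sub_left, ← algebraMap_smul L t zb,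
      show kb q τ zb y' = 0 by rw [S.kb_comm]; exact S.mem_kperp.1 hzbN 1, mul_zero, sub_zero] at h3
    have h4 : kb q τ (app h zb) y' = 0 := S.kb_eq_zero fun d => by
      rw [← hhlin, ← hhy', polar_app, S.polar_eq, S.kb_smul_left,
        show kb q τ zb y' = 0 by rw [S.kb_comm]; exact S.mem_kperp.1 hzbN 1, mul_zero, map_zero]
    rw [← sub_eq_zero, h2, ← h3, h4, zero_smul]
  obtain ⟨v, hv, hzv⟩ := S.exists_orth_not_mem (Submodule.span L {y}) (y := z) hzl
  obtain ⟨v', hv'y, hv'1, hv'2, hv'0⟩ :=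
    hscale z (app h z) v (hv y (Submodule.mem_span_singleton_self y)) hzv hr3
  exact S.soft_of_centres hM hy0 hys hEu hyE hfin hFz hFhz hzy hhz0 hzz hzl hn hv'y hv'1 hv'2 hv'0

end CfsgLib.ExtFieldOrth
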